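import Mathlib
import Cfsg.Prelude
import Cfsg.Agent.Lib.Helper3.Induction
import Cfsg.Agent.Lib.Helper26.Virtual
import Cfsg.Agent.Lib.Helper80.Quot
import Cfsg.Agent.S0034

/-!
helper96: Frobenius' theorem: the Frobenius kernel is a normal complement.
-/

set_option autoImplicit false

namespace Cfsg.Agent.Lib.Helper96

open Cfsg Cfsg.Agent.Lib.Helper3
open scoped ComplexConjugate Pointwise

section
variable {G : Type*} [Group G]

theorem frob_not_mem {H : Subgroup G} (hH : IsFrobeniusComplement H) {x h : G} (hx : x ∉ H)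
    (hh : h ∈ H) (h1 : h ≠ 1) : x⁻¹ * h * x ∉ H := by
  intro hm
  have h2 : h ∈ H ⊓ (MulAut.conj x • H) :=
    ⟨hh, (Cfsg.Agent.S0034.mem_conj_smul H x h).2 hm⟩
  rw [hH.2.2 x hx] at h2
  exact h1 (Subgroup.mem_bot.1 h2)

variable [Fintype G]

theorem indFun_frob_mem {H : Subgroup G} (hH : IsFrobeniusComplement H) (φ : H → ℂ)
    (hφ : IsClassFunction H φ) (h : H) (h1 : h ≠ 1) : indFun H φ h = φ h := by
  classical
  have := Fintype.ofFinite H
  have hN : (Nat.card H : ℂ) ≠ 0 := by exact_mod_cast Nat.card_pos.ne'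
  rw [indFun_apply]
  have key : ∀ x : G, extendByZero H φ (x⁻¹ * h * x) = extendByZero H (fun _ => φ h) x := by
    intro x
    by_cases hx : x ∈ H
    · rw [extendByZero_apply_mem _ _ hx]
      have hmem : x⁻¹ * h * x ∈ H := H.mul_mem (H.mul_mem (H.inv_mem hx) h.2) hx
      rw [extendByZero_apply_mem _ _ hmem]
      have := hφ h (⟨x, hx⟩ : H)⁻¹
      rw [← this]
      congr 1
      ext
      simp
    · rw [extendByZero_apply_not_mem _ _ hx]
      exact extendByZero_apply_not_mem _ _
        (frob_not_mem hH hx h.2 (fun h0 => h1 (Subtype.ext h0)))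
  simp only [key]
  rw [sum_extendByZero]
  simp only [Finset.sum_const, Finset.card_univ, nsmul_eq_mul]
  rw [← Nat.card_eq_fintype_card (α := H)]
  field_simp

theorem indFun_frob_ker {H : Subgroup G} (φ : H → ℂ) (g : G)
    (hg : ∀ x : G, g ∉ MulAut.conj x • H) : indFun H φ g = 0 := by
  rw [indFun_apply]
  have key : ∀ x : G, extendByZero H φ (x⁻¹ * g * x) = 0 := fun x =>
    extendByZero_apply_not_mem _ _ (fun hm => hg x ((Cfsg.Agent.S0034.mem_conj_smul H x g).2 hm))
  simp [key]

theorem frob_exists_extension {H : Subgroup G} (hH : IsFrobeniusComplement H) (θ : H → ℂ)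
    (hθ : IsIrrCharacter H θ) :
    ∃ χ : G → ℂ, IsCharacter G χ ∧ (∀ h : H, χ h = θ h) ∧ ∀ k ∈ frobeniusKernel H, χ k = χ 1 := by
  classical
  have := Fintype.ofFinite H
  by_cases hθ1 : θ = 1
  · subst hθ1
    exact ⟨1, isCharacter_one, fun _ => rfl, fun _ _ => rfl⟩
  obtain ⟨n, hn⟩ := IsCharacter.apply_one_eq_natCast (IsIrrCharacter.isCharacter hθ)
  have hn0 : (n : ℂ) ≠ 0 := hn ▸ IsIrrCharacter.apply_one_ne_zero hθ
  have h1H : IsIrrCharacter H (1 : H → ℂ) := Cfsg.Agent.Lib.Helper74.isIrrCharacter_one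
  have h1G : IsIrrCharacter G (1 : G → ℂ) := Cfsg.Agent.Lib.Helper74.isIrrCharacter_one
  set φ : H → ℂ := θ - (n : ℂ) • (1 : H → ℂ) with hφdef
  have hφ1 : φ 1 = 0 := by simp [hφdef, hn]
  have hφcf : IsClassFunction H φ := by
    intro g h
    simp only [hφdef, Pi.sub_apply, Pi.smul_apply, Pi.one_apply]
    rw [IsCharacter.isClassFunction (IsIrrCharacter.isCharacter hθ) g h]
  set χ : G → ℂ := indFun H φ + (n : ℂ) • (1 : G → ℂ) with hχdef
  have hχ1 : χ 1 = n := by
    simp [hχdef, indFun_one, hφ1]
  have hres : ∀ h : H, χ h = θ h := by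
    intro h
    by_cases h1 : h = 1
    · subst h1
      rw [Subgroup.coe_one, hχ1, hn]
    · simp only [hχdef, Pi.add_apply, Pi.smul_apply, Pi.one_apply]
      rw [indFun_frob_mem hH φ hφcf h h1]
      simp [hφdef]
  have hker : ∀ k ∈ frobeniusKernel H, χ k = χ 1 := by
    intro k hk
    rcases hk with rfl | hk
    · rfl
    · rw [hχ1]
      simp only [hχdef, Pi.add_apply, Pi.smul_apply, Pi.one_apply]
      rw [indFun_frob_ker φ k hk]
      simp
  have hgen : IsGeneralizedCharacter G χ := by
    refine ⟨indFun H θ + n • (1 : G → ℂ), n • indFun H (1 : H → ℂ),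
      IsCharacter.add (isCharacter_indFun H (IsIrrCharacter.isCharacter hθ))
        (IsCharacter.nsmul isCharacter_one n),
      IsCharacter.nsmul (isCharacter_indFun H isCharacter_one) n, ?_⟩
    rw [hχdef, hφdef, indFun_sub, indFun_smul]
    ext g
    simp
    ring
  -- inner products
  have e1 : classInner θ θ = 1 := classInner_irr_self hθ
  have e2 : classInner θ (1 : H → ℂ) = 0 := classInner_irr_ne hθ h1H hθ1
  have e3 : classInner (1 : H → ℂ) θ = 0 := classInner_irr_ne h1H hθ (Ne.symm hθ1)
  have e4 : classInner (1 : H → ℂ) (1 : H → ℂ) = 1 := classInner_irr_self h1H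
  have e5 : classInner (1 : G → ℂ) (1 : G → ℂ) = 1 := classInner_irr_self h1G
  have hcn : conj (n : ℂ) = n := Complex.conj_natCast n
  have f1 : classInner φ φ = 1 + (n : ℂ) ^ 2 := by
    rw [hφdef, classInner_sub_left, classInner_sub_right, classInner_sub_right,
      classInner_smul_left, classInner_smul_right, classInner_smul_left, classInner_smul_right,
      e1, e2, e3, e4, hcn]
    ring
  have f2 : classInner (indFun H φ) (indFun H φ) = classInner φ φ := by
    rw [frobenius_reciprocity H φ (isClassFunction_indFun H φ)]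
    simp only [classInner]
    congr 1
    refine Finset.sum_congr rfl fun x _ => ?_
    by_cases hx1 : x = 1
    · rw [hx1, hφ1, zero_mul, zero_mul]
    · rw [indFun_frob_mem hH φ hφcf x hx1]
  have f3 : classInner (indFun H φ) (1 : G → ℂ) = -(n : ℂ) := by
    rw [frobenius_reciprocity H φ (IsCharacter.isClassFunction isCharacter_one)]
    change classInner φ (1 : H → ℂ) = _
    rw [hφdef, classInner_sub_left, classInner_smul_left, e2, e4]
    ring
  have f4 : classInner (1 : G → ℂ) (indFun H φ) = -(n : ℂ) := by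
    rw [← classInner_conj_symm, f3, map_neg, hcn]
  have hnorm : classInner χ χ = 1 := by
    rw [hχdef, classInner_add_left, classInner_add_right, classInner_add_right,
      classInner_smul_left, classInner_smul_right, classInner_smul_left, classInner_smul_right,
      f2, f1, f3, f4, e5, hcn]
    ring
  rcases Cfsg.Agent.Lib.Helper26.gen_norm_one hgen hnorm with h | h
  · exact ⟨χ, IsIrrCharacter.isCharacter h, hres, hker⟩
  · exfalso
    obtain ⟨m, hm⟩ := IsCharacter.apply_one_eq_natCast (IsIrrCharacter.isCharacter h)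
    rw [Pi.neg_apply, hχ1] at hm
    have h2 : ((n + m : ℕ) : ℂ) = 0 := by push_cast; rw [← hm]; ring
    have h3 : n + m = 0 := by exact_mod_cast h2
    apply hn0
    have : n = 0 := by omega
    simp [this]

end

/-- **Frobenius' theorem.** -/
theorem frobenius_kernel_normal_complement {G : Type*} [Group G] [Finite G] (H : Subgroup G)
    (hH : IsFrobeniusComplement H) :
    ∃ N : Subgroup G, (N : Set G) = frobeniusKernel H ∧ N.Normal ∧ Subgroup.IsComplement' N H := by
  classical
  have := Fintype.ofFinite G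
  let I := {χ : G → ℂ // IsCharacter G χ ∧ ∀ k ∈ frobeniusKernel H, χ k = χ 1}
  let N : Subgroup G := ⨅ χ : I, Cfsg.Agent.Lib.Helper80.charKer χ.1 χ.2.1
  have hNn : N.Normal :=
    Subgroup.normal_iInf_normal fun χ => Cfsg.Agent.Lib.Helper80.charKer_normal χ.2.1
  have hKN : ∀ k ∈ frobeniusKernel H, k ∈ N := by
    intro k hk
    rw [Subgroup.mem_iInf]
    intro χ
    exact χ.2.2 k hk
  have hNH : ∀ h ∈ H, h ∈ N → h = 1 := by
    intro h hh hN
    by_contra h1
    have hne : (⟨h, hh⟩ : H) ∉ (⊥ : Subgroup H) := by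
      rw [Subgroup.mem_bot]
      intro h0
      exact h1 (congrArg Subtype.val h0)
    obtain ⟨θ, -, hθ⟩ := Cfsg.Agent.Lib.Helper80.exists_irr_ker_ne (⊥ : Subgroup H) hne
    obtain ⟨χ, hχ, hres, hker⟩ := frob_exists_extension hH θ.1 θ.2
    have h2 := (Subgroup.mem_iInf.1 hN) ⟨χ, hχ, hker⟩
    rw [Cfsg.Agent.Lib.Helper80.mem_charKer] at h2
    apply hθ
    rw [← hres, ← hres]
    exact h2
  have hNK : (N : Set G) = frobeniusKernel H := by
    ext x
    constructor
    · intro hx
      by_cases hx1 : x = 1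
      · exact Or.inl hx1
      · right
        intro g hg
        rw [Cfsg.Agent.S0034.mem_conj_smul] at hg
        have h3 : g⁻¹ * x * g ∈ N := by
          have := hNn.conj_mem x hx g⁻¹
          simpa using this
        have h4 := hNH _ hg h3
        apply hx1
        have : x = g * (g⁻¹ * x * g) * g⁻¹ := by group
        rw [this, h4]
        group
    · exact hKN x
  refine ⟨N, hNK, hNn, ?_⟩
  apply Subgroup.isComplement'_of_card_mul_and_disjoint
  · have h5 := (Cfsg.Agent.S0034.result H hH).1
    have h6 : Nat.card N = Nat.card (frobeniusKernel H) := by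
      rw [← hNK]; rfl
    rw [h6, h5, mul_comm, Subgroup.card_mul_index]
  · rw [Subgroup.disjoint_def]
    intro x hxN hxH
    exact hNH x hxH hxN

end Cfsg.Agent.Lib.Helper96
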