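import Cfsg.Agent.Lib.Helper31.BG11Ifc
import Cfsg.Agent.Lib.Helper31.BG11a
import Cfsg.Agent.Lib.Helper72.HH5
import Cfsg.Agent.Lib.Helper72.CoprimeC
import Cfsg.Agent.S3769

set_option autoImplicit false

namespace Cfsg.Agent.Lib.Helper96.BG11farm

open Subgroup Cfsg
open Cfsg.Agent.Lib
open Cfsg.Agent.Lib.Helper24 Cfsg.Agent.Lib.Helper34 Cfsg.Agent.Lib.Helper31.BG11

universe u

variable {G : Type u} [Group G] [Finite G]

/-- (P12) -/
theorem cent_of_cent_omega {W D : Subgroup G} {p q : ℕ} [Fact p.Prime] [Fact q.Prime] (hpq : p ≠ q)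
    (hW : IsPGroup q W) (hWab : W ≤ centralizer (W : Set G)) (hD : IsPGroup p D)
    (hDW : D ≤ normalizer (W : Set G))
    (hΩ : ∀ x ∈ W, x ^ q = 1 → x ∈ centralizer (D : Set G)) : D ≤ centralizer (W : Set G) := by
  classical
  have hp : p.Prime := Fact.out
  have hq : q.Prime := Fact.out
  have hpW : ¬ p ∣ Nat.card W := by
    obtain ⟨k, hk⟩ := IsPGroup.iff_card.1 hW
    rw [hk]
    intro h
    exact hpq ((Nat.prime_dvd_prime_iff_eq hp hq).1 (hp.dvd_of_dvd_pow h))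
  have hTW : ⁅W, D⁆ ≤ W := le_normalizer_iff_commutator_le_left.mp hDW
  have hTT := Helper22.commutator_commutator_eq D W hD hpW hDW
  have hTq : IsPGroup q (⁅W, D⁆ : Subgroup G) := hW.to_le hTW
  have hcop : (Nat.card (⁅W, D⁆ : Subgroup G)).Coprime (Nat.card D) := by
    obtain ⟨k, hk⟩ := IsPGroup.iff_card.1 hTq
    obtain ⟨l, hl⟩ := IsPGroup.iff_card.1 hD
    rw [hk, hl]
    exact Nat.Coprime.pow _ _ ((Nat.coprime_primes hq hp).2 hpq.symm)
  have hDT : D ≤ normalizer ((⁅W, D⁆ : Subgroup G) : Set G) := by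
    rw [le_normalizer_iff_commutator_le_left, hTT]
  have hab : ⁅(⁅W, D⁆ : Subgroup G), (⁅W, D⁆ : Subgroup G)⁆ ≤ ⊥ := by
    rw [le_bot_iff, commutator_eq_bot_iff_le_centralizer]
    exact hTW.trans (hWab.trans (centralizer_le hTW))
  have hinf := Helper72.inf_centralizer_le (T := ⁅W, D⁆) (A := D) (N := ⊥) bot_le hDT
    (by rw [normalizer_eq_top]; exact le_top) hab hcop hTT
  have hT1 : (⁅W, D⁆ : Subgroup G) = ⊥ := by
    by_contra hne
    obtain ⟨z, hz, -, hz1, hzq⟩ := Helper24.exists_central_order_p hTq hne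
    exact hz1 (mem_bot.1 (hinf ⟨hz, hΩ z (hTW hz) hzq⟩))
  rw [commutator_eq_bot_iff_le_centralizer] at hT1
  exact le_centralizer_iff.1 hT1

end Cfsg.Agent.Lib.Helper96.BG11farm
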