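import Cfsg.Agent.Lib.Helper31.BG11Ifc
import Cfsg.Agent.Lib.Helper31.BG11a
import Cfsg.Agent.Lib.Helper72.HH5
import Cfsg.Agent.Lib.Helper72.CoprimeC
import Cfsg.Agent.S3769

set_option autoImplicit false

namespace Cfsg.Agent.Lib.Helper96.BG11farm

open Subgroup Cfsg
open Cfsg.Agent.Lib
open Cfsg.Agent.Lib.Helper24 Cfsg.Agent.Lib.Helper34 Cfsg.Agent.Lib.Helper31.BG11

universe u

variable {G : Type u} [Group G] [Finite G]

/-- (P16) -/
theorem exists_cent_order_p {A Y : Subgroup G} {p q : ℕ} [Fact p.Prime] [Fact q.Prime] (hpq : p ≠ q)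
    (hA : IsElementaryAbelian p A) (hcard : Nat.card A = p ^ 2) (hY : Nat.card Y = q)
    (hAY : A ≤ normalizer (Y : Set G)) :
    ∃ A₂ : Subgroup G, A₂ ≤ A ∧ Nat.card A₂ = p ∧ A₂ ≤ centralizer (Y : Set G) := by
  classical
  have hp : p.Prime := Fact.out
  have hcyc : IsCyclic Y := isCyclic_of_prime_card hY
  let f : A →* MulAut Y := Y.normalizerMonoidHom.comp (inclusion hAY)
  have hAutCyc : IsCyclic (MulAut Y) := by
    have e := IsCyclic.mulAutMulEquiv Y
    rw [hY] at e
    exact isCyclic_of_surjective e.symm e.symm.surjective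
  have hrc : IsCyclic f.range := inferInstance
  obtain ⟨⟨g, a0, rfl⟩, hg⟩ := hrc.exists_generator
  have hrange : Nat.card f.range ∣ p := by
    rw [← orderOf_eq_card_of_forall_mem_zpowers hg]
    apply orderOf_dvd_of_pow_eq_one
    apply Subtype.ext
    change (f a0) ^ p = 1
    rw [← map_pow]
    have : a0 ^ p = 1 := Subtype.ext (hA.2 a0 a0.2)
    rw [this, map_one]
  have hmul : Nat.card f.ker * Nat.card f.range = p ^ 2 := by
    rw [← hcard, ← Subgroup.index_ker, mul_comm]
    exact Subgroup.index_mul_card _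
  have hpk : p ∣ Nat.card f.ker := by
    rcases (Nat.dvd_prime hp).1 hrange with h1 | h1
    · rw [h1, mul_one] at hmul
      rw [hmul]; exact dvd_pow_self p (by norm_num)
    · rw [h1, pow_two] at hmul
      rw [Nat.eq_of_mul_eq_mul_right hp.pos hmul]
  obtain ⟨c, hc⟩ := exists_prime_orderOf_dvd_card' p hpk
  refine ⟨zpowers ((c : A) : G), ?_, ?_, ?_⟩
  · rw [zpowers_le]; exact (c : A).2
  · rw [Nat.card_zpowers, Subgroup.orderOf_coe, Subgroup.orderOf_coe, hc]
  · rw [zpowers_le]
    have h1 : (inclusion hAY (c : A)) ∈ Y.normalizerMonoidHom.ker := by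
      rw [MonoidHom.mem_ker]
      exact c.2
    rw [normalizerMonoidHom_ker, mem_subgroupOf] at h1
    exact h1

end Cfsg.Agent.Lib.Helper96.BG11farm
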