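import Mathlib
import Cfsg.Agent.Lib.Helper66.FrobCompl
import Cfsg.Agent.Lib.Helper32.FrobSL25
import Cfsg.Agent.Lib.Helper20.Fus5

set_option autoImplicit false
set_option linter.style.haveILetI false

/-! Group theory for the exceptional near-fields (Passman, Permutation groups, §20). -/

namespace Cfsg.Agent.Lib.Helper96

open Subgroup Cfsg.Agent.Lib.Helper66 Cfsg.Agent.Lib.Helper32.FrobSL25

theorem nf_isMulCommutative_sup {H : Type*} [Group H] (A M : Subgroup H)
    (hA : IsMulCommutative A) (hM : IsMulCommutative M) (hAM : M ≤ centralizer (A : Set H)) :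
    IsMulCommutative (A ⊔ M : Subgroup H) := by
  rw [← le_centralizer_iff_isMulCommutative] at hA hM ⊢
  have h1 : A ⊔ M ≤ centralizer (A : Set H) := sup_le hA hAM
  have h2 : A ⊔ M ≤ centralizer (M : Set H) := sup_le (le_centralizer_iff.mp hAM) hM
  exact sup_le (le_centralizer_iff.mp h1) (le_centralizer_iff.mp h2)

theorem nf_nilpotent_of_class_two {N : Type*} [Group N]
    (h : ∀ x y z c : N, x * y = c * (y * x) → c * z = z * c) : Group.IsNilpotent N := by
  rw [Subgroup.nilpotent_iff_lowerCentralSeries]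
  refine ⟨2, ?_⟩
  rw [Subgroup.lowerCentralSeries_succ, commutator_eq_bot_iff_le_centralizer,
    Subgroup.lowerCentralSeries_succ, Subgroup.lowerCentralSeries_zero, Subgroup.commutator_le]
  intro x _ y _
  rw [mem_centralizer_iff]
  intro z _
  rw [commutatorElement_def]
  exact (h x y z _ (by group)).symm

theorem nf_exists_sylow_not_comm {N : Type*} [Group N] [Finite N] (hnil : Group.IsNilpotent N)
    (hna : ¬ IsMulCommutative N) :
    ∃ (r : ℕ) (_ : Fact r.Prime) (P : Sylow r N), (P : Subgroup N).Normal ∧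
      ¬ IsMulCommutative P := by
  have h3 := (Group.isNilpotent_of_finite_tfae (G := N)).out 0 3
  have h4 := (Group.isNilpotent_of_finite_tfae (G := N)).out 0 4
  obtain ⟨e⟩ := h4.mp hnil
  have hn := h3.mp hnil
  by_contra hcon
  push Not at hcon
  apply hna
  refine ⟨⟨fun x y => ?_⟩⟩
  obtain ⟨x', rfl⟩ := e.surjective x
  obtain ⟨y', rfl⟩ := e.surjective y
  rw [← map_mul, ← map_mul]
  congr 1
  funext r P
  have hr : Fact (r : ℕ).Prime := ⟨Nat.prime_of_mem_primeFactors r.2⟩
  exact (hcon r hr P (hn r hr P)).is_comm.comm (x' r P) (y' r P)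

theorem nf_quaternion_class_two (n : ℕ)
    (h : ∀ x y z c : QuaternionGroup (2 ^ n), x * y = c * (y * x) → c * z = z * c) : n ≤ 1 := by
  have h1 := h (QuaternionGroup.a 1) (QuaternionGroup.xa 0) (QuaternionGroup.xa 0)
    (QuaternionGroup.a 2) (by
      simp only [QuaternionGroup.a_mul_xa, QuaternionGroup.xa_mul_a, QuaternionGroup.xa.injEq]
      ring)
  simp only [QuaternionGroup.a_mul_xa, QuaternionGroup.xa_mul_a, QuaternionGroup.xa.injEq] at h1
  have h2 : ((4 : ℕ) : ZMod (2 * 2 ^ n)) = 0 := by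
    have : (4 : ZMod (2 * 2 ^ n)) = (0 + 2) - (0 - 2) := by ring
    push_cast
    rw [this, h1]
    ring
  rw [ZMod.natCast_eq_zero_iff] at h2
  by_contra hcon
  have h3 : 2 ^ 2 ≤ 2 ^ n := Nat.pow_le_pow_right (by norm_num) (by omega)
  have h4 := Nat.le_of_dvd (by norm_num) h2
  omega

theorem nf_le_of_normal_comm {H : Type*} [Group H] (A : Subgroup H) (hAn : A.Normal)
    (hAc : IsMulCommutative A)
    (hAmax : ∀ B : Subgroup H, B.Normal → IsMulCommutative B → A ≤ B → B = A)
    (M : Subgroup H) (hMn : M.Normal) (hMc : IsMulCommutative M)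
    (hMle : M ≤ centralizer (A : Set H)) : M ≤ A := by
  have h1 := hAmax (A ⊔ M) (sup_normal A M) (nf_isMulCommutative_sup A M hAc hMc hMle) le_sup_left
  rw [← h1]
  exact le_sup_right

theorem nf_quaternion_of_not_perfect {H : Type*} [Group H] [Finite H] (hFC : FC H)
    (A : Subgroup H) (hAn : A.Normal) (hAc : IsMulCommutative A)
    (hAmax : ∀ B : Subgroup H, B.Normal → IsMulCommutative B → A ≤ B → B = A)
    (N : Subgroup H) (hNn : N.Normal) (hNle : N ≤ centralizer (A : Set H))
    (hNna : ¬ IsMulCommutative N)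
    (hNmin : ∀ M : Subgroup H, M.Normal → M ≤ N → ¬ IsMulCommutative M → M = N)
    (hnp : ⁅N, N⁆ ≠ N) : Nonempty (N ≃* QuaternionGroup 2) := by
  have hN'n : (⁅N, N⁆ : Subgroup H).Normal := commutator_normal N N
  have hN'le : ⁅N, N⁆ ≤ N := commutator_le_left N N
  have hN'c : IsMulCommutative (⁅N, N⁆ : Subgroup H) := by
    by_contra hcon
    exact hnp (hNmin _ hN'n hN'le hcon)
  have hN'A : ⁅N, N⁆ ≤ A := nf_le_of_normal_comm A hAn hAc hAmax _ hN'n hN'c (hN'le.trans hNle)
  have hcl : ∀ x y z c : N, x * y = c * (y * x) → c * z = z * c := by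
    intro x y z c hc
    have h1 : (c : H) = (x : H) * y * (x : H)⁻¹ * (y : H)⁻¹ := by
      have := congrArg Subtype.val hc
      simp only [Subgroup.coe_mul] at this
      calc (c : H) = (c * (y * x)) * ((x : H)⁻¹ * (y : H)⁻¹) := by group
        _ = _ := by rw [← this]; group
    have h2 : (c : H) ∈ A := by
      apply hN'A
      rw [h1, ← commutatorElement_def]
      exact commutator_mem_commutator x.2 y.2
    have h3 := mem_centralizer_iff.mp (hNle z.2) c h2
    exact Subtype.ext h3
  have hnil := nf_nilpotent_of_class_two hcl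
  obtain ⟨r, hr, P, hPn, hPna⟩ := nf_exists_sylow_not_comm hnil hNna
  haveI := P.characteristic_of_normal hPn
  have hMn : ((P : Subgroup N).map N.subtype).Normal := ConjAct.normal_of_characteristic_of_normal
  have hMle : (P : Subgroup N).map N.subtype ≤ N := map_subtype_le _
  have hMna : ¬ IsMulCommutative ((P : Subgroup N).map N.subtype) := by
    intro hc
    apply hPna
    refine ⟨⟨fun x y => ?_⟩⟩
    have := hc.is_comm.comm ⟨x.1.1, x.1, x.2, rfl⟩ ⟨y.1.1, y.1, y.2, rfl⟩
    apply Subtype.ext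
    apply Subtype.ext
    exact congrArg (fun t : (P : Subgroup N).map N.subtype => (t : H)) this
  have hMN := hNmin _ hMn hMle hMna
  have hpg : IsPGroup r N := by
    have := P.2.map N.subtype
    rwa [hMN] at this
  rcases hFC.cyclic_or_quaternion N hpg with hcyc | ⟨-, n, ⟨e⟩⟩
  · exfalso
    apply hNna
    refine ⟨⟨fun x y => ?_⟩⟩
    letI := hcyc.commGroup
    exact mul_comm x y
  · have hn := nf_quaternion_class_two n (by
      intro x y z c hc
      have := hcl (e.symm x) (e.symm y) (e.symm z) (e.symm c) (by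
        rw [← map_mul, ← map_mul, ← map_mul, hc])
      rw [← map_mul, ← map_mul] at this
      exact e.symm.injective this)
    interval_cases n
    · exfalso
      apply hNna
      refine ⟨⟨fun x y => ?_⟩⟩
      have hc1 : IsCyclic (QuaternionGroup (2 ^ 0)) := QuaternionGroup.quaternionGroup_one_isCyclic
      letI := hc1.commGroup
      apply e.injective
      rw [map_mul, map_mul]
      exact mul_comm _ _
    · exact ⟨e⟩

/-- a pair of elements generating a quaternion group. -/
def HasQuat (G : Type*) [Group G] : Prop :=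
  ∃ I J : G, I * I ≠ 1 ∧ (I * I) * (I * I) = 1 ∧ J * J = I * I ∧ I * J = (I * I) * (J * I)

theorem HasQuat.of_equiv {G G' : Type*} [Group G] [Group G'] (e : G ≃* G') (h : HasQuat G') :
    HasQuat G := by
  obtain ⟨I, J, h1, h2, h3, h4⟩ := h
  refine ⟨e.symm I, e.symm J, ?_, ?_, ?_, ?_⟩
  · rw [← map_mul]
    intro h
    exact h1 (e.symm.injective (h.trans (map_one e.symm).symm))
  · rw [← map_mul, ← map_mul, h2, map_one]
  · rw [← map_mul, ← map_mul, h3]
  · rw [← map_mul, ← map_mul, ← map_mul, ← map_mul, h4]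

theorem hasQuat_quaternion : HasQuat (QuaternionGroup 2) :=
  ⟨QuaternionGroup.a 1, QuaternionGroup.xa 0, by decide, by decide, by decide, by decide⟩

theorem nf_exists_min {H : Type*} [Group H] [Finite H] (B : Subgroup H) (hBn : B.Normal)
    (hBna : ¬ IsMulCommutative B) :
    ∃ N : Subgroup H, N.Normal ∧ N ≤ B ∧ ¬ IsMulCommutative N ∧
      ∀ M : Subgroup H, M.Normal → M ≤ N → ¬ IsMulCommutative M → M = N := by
  have wf : WellFounded ((· < ·) : Subgroup H → Subgroup H → Prop) := wellFounded_lt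
  obtain ⟨N, ⟨h1, h2, h3⟩, hmin⟩ := wf.has_min
    {N : Subgroup H | N.Normal ∧ N ≤ B ∧ ¬ IsMulCommutative N} ⟨B, hBn, le_rfl, hBna⟩
  refine ⟨N, h1, h2, h3, fun M hMn hMle hMna => ?_⟩
  by_contra hne
  exact hmin M ⟨hMn, hMle.trans h2, hMna⟩ (lt_of_le_of_ne hMle hne)

theorem nf_exists_max {H : Type*} [Group H] [Finite H] :
    ∃ A : Subgroup H, A.Normal ∧ IsMulCommutative A ∧
      ∀ B : Subgroup H, B.Normal → IsMulCommutative B → A ≤ B → B = A := by
  have wf : WellFounded ((· > ·) : Subgroup H → Subgroup H → Prop) := wellFounded_gt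
  obtain ⟨A, ⟨h1, h2⟩, hmax⟩ := wf.has_min
    {A : Subgroup H | A.Normal ∧ IsMulCommutative A} ⟨⊥, inferInstance, inferInstance⟩
  refine ⟨A, h1, h2, fun B hBn hBc hAB => ?_⟩
  by_contra hne
  exact hmax B ⟨hBn, hBc⟩ (lt_of_le_of_ne hAB (Ne.symm hne))

theorem nf_inf_centralizer {H : Type*} [Group H] [Finite H] (hFC : FC H)
    (A : Subgroup H) (hAn : A.Normal) (hAc : IsMulCommutative A)
    (hAmax : ∀ B : Subgroup H, B.Normal → IsMulCommutative B → A ≤ B → B = A)
    (hgood : ∀ N : Subgroup H, N.Normal → N ≤ centralizer (A : Set H) → ¬ IsMulCommutative N →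
      (∀ M : Subgroup H, M.Normal → M ≤ N → ¬ IsMulCommutative M → M = N) → HasQuat N)
    (N : Subgroup H) (hNn : N.Normal) (hNle : N ≤ centralizer (A : Set H))
    (hNna : ¬ IsMulCommutative N)
    (hNmin : ∀ M : Subgroup H, M.Normal → M ≤ N → ¬ IsMulCommutative M → M = N) :
    centralizer (A : Set H) ⊓ centralizer (N : Set H) = A := by
  have hBn : (centralizer (A : Set H) ⊓ centralizer (N : Set H)).Normal := inferInstance
  have hAB : A ≤ centralizer (A : Set H) ⊓ centralizer (N : Set H) :=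
    le_inf (le_centralizer_iff_isMulCommutative.mpr hAc) (le_centralizer_iff.mp hNle)
  by_cases hBc : IsMulCommutative (centralizer (A : Set H) ⊓ centralizer (N : Set H) : Subgroup H)
  · exact hAmax _ hBn hBc hAB
  exfalso
  obtain ⟨N₂, hN₂n, hN₂le, hN₂na, hN₂min⟩ := nf_exists_min _ hBn hBc
  obtain ⟨I, J, h1, h2, h3, h4⟩ := hgood N hNn hNle hNna hNmin
  obtain ⟨I₂, -, k1, k2, -, -⟩ := hgood N₂ hN₂n (hN₂le.trans inf_le_left) hN₂na hN₂min
  have hyc : ∀ u ∈ N, Commute (I₂ : H) u := by
    intro u hu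
    exact (mem_centralizer_iff.mp (hN₂le I₂.2).2 u hu).symm
  have hxy : Commute (I : H) (I₂ : H) := (hyc I I.2).symm
  have ho : ∀ t : H, t ≠ 1 → t * t = 1 → orderOf t = 2 := by
    intro t ht ht2
    exact orderOf_eq_prime (by rw [sq]; exact ht2) ht
  have hx2 : orderOf ((I : H) * I) = 2 := ho _
    (fun h => h1 (Subtype.ext h)) (congrArg Subtype.val h2)
  have hy2 : orderOf ((I₂ : H) * I₂) = 2 := ho _
    (fun h => k1 (Subtype.ext h)) (congrArg Subtype.val k2)
  have hsq : (I₂ : H) * I₂ = (I : H) * I :=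
    Cfsg.Agent.Lib.Helper32.FrobSL25.FC.eq_of_orderOf_two hFC hx2 hy2 ((hxy.mul_left hxy).mul_right (hxy.mul_left hxy))
  have hcomm : Commute (I : H) (J : H) := by
    have hxy' : Commute (I : H) (I₂ : H)⁻¹ := hxy.inv_right
    by_cases ht : (I : H) * (I₂ : H)⁻¹ = 1
    · have : (I : H) = I₂ := mul_inv_eq_one.mp ht
      rw [this]
      exact hyc J J.2
    · have ht2 : ((I : H) * (I₂ : H)⁻¹) * ((I : H) * (I₂ : H)⁻¹) = 1 := by
        have : ((I : H) * (I₂ : H)⁻¹) * ((I : H) * (I₂ : H)⁻¹)
            = ((I : H) * I) * ((I₂ : H) * I₂)⁻¹ := by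
          rw [mul_inv_rev, mul_assoc, mul_assoc, ← mul_assoc (I₂ : H)⁻¹, ← hxy'.eq, mul_assoc]
        rw [this, hsq, mul_inv_cancel]
      have h5 := Cfsg.Agent.Lib.Helper32.FrobSL25.FC.eq_of_orderOf_two hFC hx2 (ho _ ht ht2)
        (((Commute.refl (I : H)).mul_left (Commute.refl (I : H))).mul_right
          (hxy'.mul_left hxy'))
      have h6 : (I₂ : H)⁻¹ = I := mul_left_cancel h5
      rw [← h6]
      exact (hyc J J.2).inv_left
  apply h1
  have h7 : I * J = J * I := Subtype.ext hcomm.eq
  rw [h7] at h4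
  exact (mul_eq_right.mp h4.symm)

theorem nf_card_centralizer {H : Type*} [Group H] (A N : Subgroup H) [N.Normal]
    (hB : centralizer (A : Set H) ⊓ centralizer (N : Set H) = A) :
    ∃ e, e ∣ Nat.card (MulAut N) ∧ Nat.card (centralizer (A : Set H)) = e * Nat.card A := by
  let f : centralizer (A : Set H) →* MulAut N :=
    (MulAut.conjNormal : H →* MulAut N).comp (centralizer (A : Set H)).subtype
  have hker : Nat.card f.ker = Nat.card A := by
    have h1 : f.ker = (centralizer (N : Set H)).subgroupOf (centralizer (A : Set H)) := by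
      rw [← Cfsg.Agent.Lib.Helper32.AutSL25.ker_conjNormal N]
      exact (MonoidHom.comap_ker _ _).symm
    rw [h1, ← card_map_of_injective (centralizer (A : Set H)).subtype_injective,
      subgroupOf_map_subtype, inf_comm, hB]
  refine ⟨Nat.card f.range, card_subgroup_dvd_card _, ?_⟩
  rw [← hker, ← index_ker, mul_comm, card_mul_index]

theorem nf_card_mulAut_quaternion : Nat.card (MulAut (QuaternionGroup 2)) ∣ 24 := by
  let π := Cfsg.Agent.Lib.Helper20.Fus.piHom
  let c : QuaternionGroup 2 →* MulAut (QuaternionGroup 2) := MulAut.conj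
  have h1 : Nat.card π.ker * Nat.card π.range = Nat.card (MulAut (QuaternionGroup 2)) := by
    rw [← index_ker, card_mul_index]
  have h2 : Nat.card π.range ∣ 6 := by
    have := card_subgroup_dvd_card π.range
    rwa [Nat.card_perm, Nat.card_fin] at this
  have h3 : π.ker = c.range := by
    ext φ
    rw [MonoidHom.mem_ker, Cfsg.Agent.Lib.Helper20.Fus.piHom_eq_one_iff, MonoidHom.mem_range]
    constructor
    · rintro ⟨u, hu⟩
      refine ⟨u, ?_⟩
      ext w
      rw [hu w]
      rfl
    · rintro ⟨u, rfl⟩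
      exact ⟨u, fun w => rfl⟩
  have h4 : Nat.card c.range ∣ 4 := by
    have h5 : Nat.card c.ker * Nat.card c.range = 8 := by
      rw [← index_ker, card_mul_index, Nat.card_eq_fintype_card, QuaternionGroup.card]
    have h6 : QuaternionGroup.a 2 ∈ c.ker := by
      rw [MonoidHom.mem_ker]
      ext w
      change QuaternionGroup.a 2 * w * (QuaternionGroup.a 2)⁻¹ = w
      revert w
      decide
    have h7 : orderOf (QuaternionGroup.a 2 : QuaternionGroup 2) = 2 :=
      orderOf_eq_prime (by decide) (by decide)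
    have h8 : 2 ∣ Nat.card c.ker := by
      have := orderOf_dvd_natCard (⟨QuaternionGroup.a 2, h6⟩ : c.ker)
      rwa [Subgroup.orderOf_mk, h7] at this
    obtain ⟨m, hm⟩ := h8
    rw [hm] at h5
    exact ⟨m, by nlinarith⟩
  rw [← h1, h3]
  exact mul_dvd_mul h4 h2

end Cfsg.Agent.Lib.Helper96
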