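import Mathlib
import Cfsg.Agent.S0685
import Cfsg.Agent.Lib.Helper55.InsolNearfield
import Cfsg.Agent.Lib.Helper96.NearFieldArith
import Cfsg.Agent.Lib.Helper96.NearFieldIndex
import Cfsg.Agent.Lib.Helper96.NearFieldGroup

set_option autoImplicit false
set_option linter.style.haveILetI false

/-! The exceptional near-fields: assembling the pieces (Passman, Permutation groups, §20). -/

namespace Cfsg.Agent.Lib.Helper96

open Subgroup Cfsg.Agent.Lib.Helper66 Cfsg.Agent.Lib.Helper32.FrobSL25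

section
variable {p : ℕ} [Fact p.Prime] {V : Type*} [AddCommGroup V] [Module (ZMod p) V] [Finite V]

theorem nf_card_H (H : Subgroup (V ≃ₗ[ZMod p] V))
    (hreg : ∀ v w : V, v ≠ 0 → w ≠ 0 → ∃! h : H, (h : V ≃ₗ[ZMod p] V) v = w)
    (w : V) (hw0 : w ≠ 0) : Nat.card H = p ^ Module.finrank (ZMod p) V - 1 := by
  classical
  have e : H ≃ {v : V // v ≠ 0} := Equiv.ofBijective
    (fun h => ⟨(h : V ≃ₗ[ZMod p] V) w, by simpa using hw0⟩) (by
      constructor
      · intro a b hab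
        have hab' : (a : V ≃ₗ[ZMod p] V) w = (b : V ≃ₗ[ZMod p] V) w := congrArg Subtype.val hab
        obtain ⟨h₀, _, huniq⟩ := hreg w ((b : V ≃ₗ[ZMod p] V) w) hw0 (by simpa using hw0)
        rw [huniq a hab', huniq b rfl]
      · rintro ⟨v, hv⟩
        obtain ⟨h₀, hh₀, _⟩ := hreg w v hw0 hv
        exact ⟨h₀, Subtype.ext hh₀⟩)
  have h1 : Nat.card V = p ^ Module.finrank (ZMod p) V := by
    rw [Module.natCard_eq_pow_finrank (K := ZMod p), Nat.card_zmod]
  rw [Nat.card_congr e, ← h1]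
  haveI : Fintype V := Fintype.ofFinite _
  rw [Nat.card_eq_fintype_card, Nat.card_eq_fintype_card, Fintype.card_subtype_compl]
  simp

theorem nf_two_mul_le (H : Subgroup (V ≃ₗ[ZMod p] V))
    (hreg : ∀ v w : V, v ≠ 0 → w ≠ 0 → ∃! h : H, (h : V ≃ₗ[ZMod p] V) v = w)
    (A : Subgroup H) (hAn : A.Normal)
    (W : Submodule (ZMod p) V) (hWne : W ≠ ⊥) (hWtop : W ≠ ⊤)
    (hWinv : ∀ a ∈ A, ∀ v ∈ W, ((a : H) : V ≃ₗ[ZMod p] V) v ∈ W)
    (hWmin : ∀ W' : Submodule (ZMod p) V, W' ≤ W →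
      (∀ a ∈ A, ∀ v ∈ W', ((a : H) : V ≃ₗ[ZMod p] V) v ∈ W') → W' = ⊥ ∨ W' = W) :
    2 * Module.finrank (ZMod p) W ≤ Module.finrank (ZMod p) V := by
  classical
  obtain ⟨w, hwW, hw0⟩ := (Submodule.ne_bot_iff W).mp hWne
  obtain ⟨v, hv⟩ : ∃ v : V, v ∉ W := by
    by_contra hcon
    push Not at hcon
    exact hWtop (eq_top_iff.mpr fun v _ => hcon v)
  have hv0 : v ≠ 0 := fun h => hv (h ▸ W.zero_mem)
  obtain ⟨h, hh, _⟩ := hreg w v hw0 hv0
  let W2 : Submodule (ZMod p) V := W.map ((h : V ≃ₗ[ZMod p] V) : V →ₗ[ZMod p] V)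
  have hW2inv : ∀ a ∈ A, ∀ u ∈ W2, ((a : H) : V ≃ₗ[ZMod p] V) u ∈ W2 := by
    rintro a ha _ ⟨u, hu, rfl⟩
    refine ⟨((h⁻¹ * a * h : H) : V ≃ₗ[ZMod p] V) u, hWinv _ ?_ u hu, ?_⟩
    · have := hAn.conj_mem a ha h⁻¹
      simpa using this
    · have : (h : V ≃ₗ[ZMod p] V) (((h⁻¹ * a * h : H) : V ≃ₗ[ZMod p] V) u)
          = ((h * (h⁻¹ * a * h) : H) : V ≃ₗ[ZMod p] V) u := rfl
      change (h : V ≃ₗ[ZMod p] V) (((h⁻¹ * a * h : H) : V ≃ₗ[ZMod p] V) u) = _
      rw [this]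
      have h3 : h * (h⁻¹ * a * h) = a * h := by group
      rw [h3]
      rfl
  have hfr2 : Module.finrank (ZMod p) W2 = Module.finrank (ZMod p) W :=
    LinearEquiv.finrank_map_eq (h : V ≃ₗ[ZMod p] V) W
  have hinf : W ⊓ W2 = ⊥ := by
    rcases hWmin (W ⊓ W2) inf_le_left (fun a ha u hu =>
      Submodule.mem_inf.mpr ⟨hWinv a ha u (Submodule.mem_inf.mp hu).1,
        hW2inv a ha u (Submodule.mem_inf.mp hu).2⟩) with h1 | h1
    · exact h1
    · exfalso
      have hle : W ≤ W2 := inf_eq_left.mp h1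
      have heq : W = W2 := Submodule.eq_of_le_of_finrank_eq hle hfr2.symm
      apply hv
      rw [heq, ← hh]
      exact ⟨w, hwW, rfl⟩
  have := Submodule.finrank_sup_add_finrank_inf_eq W W2
  rw [hinf, finrank_bot, hfr2] at this
  have h4 := Submodule.finrank_le (W ⊔ W2)
  omega

theorem nf_factor (H : Subgroup (V ≃ₗ[ZMod p] V))
    (hreg : ∀ v w : V, v ≠ 0 → w ≠ 0 → ∃! h : H, (h : V ≃ₗ[ZMod p] V) v = w)
    (hI : ∀ A : Subgroup H, A.Normal → IsCyclic A → ∃ W : Submodule (ZMod p) V, W ≠ ⊥ ∧ W ≠ ⊤ ∧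
      ∀ a ∈ A, ∀ v ∈ W, ((a : H) : V ≃ₗ[ZMod p] V) v ∈ W)
    (A : Subgroup H) (hAn : A.Normal) (hAc : IsMulCommutative A)
    (hAmax : ∀ B : Subgroup H, B.Normal → IsMulCommutative B → A ≤ B → B = A)
    (N : Subgroup H) (hNn : N.Normal)
    (hB : centralizer (A : Set H) ⊓ centralizer (N : Set H) = A) :
    ∃ k a e c : ℕ, 1 ≤ k ∧ 2 * k ≤ Module.finrank (ZMod p) V ∧
      Nat.card H = p ^ Module.finrank (ZMod p) V - 1 ∧
      p ^ Module.finrank (ZMod p) V - 1 = a * e * c ∧ 0 < a ∧ a ≤ k ∧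
      e ∣ Nat.card (MulAut N) ∧ c ∣ p ^ k - 1 ∧ a = (centralizer (A : Set H)).index := by
  classical
  haveI := Cfsg.Agent.Lib.Helper55.finite_of_linearEquiv_subgroup H
  obtain ⟨hcyc, W, hWne, hWtop, hWinv, hWmin, hdvd⟩ :=
    Cfsg.Agent.S0684.result H hreg hI A hAn hAc hAmax
  obtain ⟨w, hwW, hw0⟩ := (Submodule.ne_bot_iff W).mp hWne
  obtain ⟨e, he, hCe⟩ := nf_card_centralizer A N hB
  have hcard := nf_card_H H hreg w hw0
  refine ⟨Module.finrank (ZMod p) W, (centralizer (A : Set H)).index, e, Nat.card A, ?_,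
    nf_two_mul_le H hreg A hAn W hWne hWtop hWinv hWmin, hcard, ?_, ?_,
    nf_index_centralizer_le H hreg A hAn hAc hcyc W hWne hWinv hWmin, he, hdvd, rfl⟩
  · rw [Nat.one_le_iff_ne_zero]
    intro h0
    exact hWne (Submodule.finrank_eq_zero.mp h0)
  · rw [← hcard, ← card_mul_index (centralizer (A : Set H)), hCe]
    ring
  · exact Nat.pos_of_ne_zero (index_ne_zero_of_finite)

theorem nf_not_dvd {p n r : ℕ} (hn : n ≠ 0) (hp : 0 < p) (hr : 1 < r) (h : r ∣ p ^ n - 1) :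
    ¬ r ∣ p := by
  intro hrp
  have h1 : r ∣ p ^ n := dvd_pow hrp hn
  have h2 : 0 < p ^ n := Nat.pow_pos hp
  have h3 : r ∣ p ^ n - (p ^ n - 1) := Nat.dvd_sub h1 h
  have h4 : p ^ n - (p ^ n - 1) = 1 := by omega
  rw [h4] at h3
  have := Nat.le_of_dvd (by norm_num) h3
  omega

theorem nf_fc (H : Subgroup (V ≃ₗ[ZMod p] V))
    (hreg : ∀ v w : V, v ≠ 0 → w ≠ 0 → ∃! h : H, (h : V ≃ₗ[ZMod p] V) v = w)
    (N : Subgroup H) (hNna : ¬ IsMulCommutative N) : IsFC H := by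
  have hnt : Nontrivial H := by
    by_contra hcon
    rw [not_nontrivial_iff_subsingleton] at hcon
    exact hNna ⟨⟨fun x y => Subsingleton.elim _ _⟩⟩
  exact Cfsg.Agent.Lib.Helper55.regular_isFrobeniusComplement H hreg hnt

theorem nf_dim_two (H : Subgroup (V ≃ₗ[ZMod p] V))
    (hreg : ∀ v w : V, v ≠ 0 → w ≠ 0 → ∃! h : H, (h : V ≃ₗ[ZMod p] V) v = w)
    (hI : ∀ A : Subgroup H, A.Normal → IsCyclic A → ∃ W : Submodule (ZMod p) V, W ≠ ⊥ ∧ W ≠ ⊤ ∧
      ∀ a ∈ A, ∀ v ∈ W, ((a : H) : V ≃ₗ[ZMod p] V) v ∈ W)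
    (A : Subgroup H) (hAn : A.Normal) (hAc : IsMulCommutative A)
    (hAmax : ∀ B : Subgroup H, B.Normal → IsMulCommutative B → A ≤ B → B = A)
    (hgood : ∀ N : Subgroup H, N.Normal → N ≤ centralizer (A : Set H) → ¬ IsMulCommutative N →
      (∀ M : Subgroup H, M.Normal → M ≤ N → ¬ IsMulCommutative M → M = N) → HasQuat N)
    (N : Subgroup H) (hNn : N.Normal) (hNle : N ≤ centralizer (A : Set H))
    (hNna : ¬ IsMulCommutative N)
    (hNmin : ∀ M : Subgroup H, M.Normal → M ≤ N → ¬ IsMulCommutative M → M = N)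
    (hN : Nonempty (N ≃* QuaternionGroup 2) ∨
      Nonempty (N ≃* Matrix.SpecialLinearGroup (Fin 2) (ZMod 5))) :
    Module.finrank (ZMod p) V = 2 ∧ centralizer (N : Set H) = A ∧
      (Nonempty (N ≃* QuaternionGroup 2) → p + 1 ∣ 24 ∧ ¬ 2 ∣ p) := by
  classical
  haveI := Cfsg.Agent.Lib.Helper55.finite_of_linearEquiv_subgroup H
  have hp : p.Prime := Fact.out
  have hFC : FC H := (nf_fc H hreg N hNna).fc
  have hB := nf_inf_centralizer hFC A hAn hAc hAmax hgood N hNn hNle hNna hNmin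
  obtain ⟨k, a, e, c, hk, h2k, hcard, hfac, ha0, hak, he, hc, ha⟩ :=
    nf_factor H hreg hI A hAn hAc hAmax N hNn hB
  have hNH : Nat.card N ∣ p ^ Module.finrank (ZMod p) V - 1 := by
    rw [← hcard]
    exact card_subgroup_dvd_card N
  have hn0 : Module.finrank (ZMod p) V ≠ 0 := by omega
  have hq8 : ∀ ε : N ≃* QuaternionGroup 2, ¬ 2 ∣ p ∧ e ∣ 24 := by
    intro ε
    have h8 : Nat.card N = 8 := by
      rw [Nat.card_congr ε.toEquiv, Nat.card_eq_fintype_card, QuaternionGroup.card]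
    refine ⟨nf_not_dvd hn0 hp.pos (by norm_num) (Dvd.dvd.trans (by rw [h8]; norm_num) hNH), ?_⟩
    refine he.trans ?_
    rw [Nat.card_congr (MulAut.congr ε).toEquiv]
    exact nf_card_mulAut_quaternion
  have hkn : k = 1 ∧ Module.finrank (ZMod p) V = 2 := by
    rcases hN with ⟨⟨ε⟩⟩ | ⟨⟨ε⟩⟩
    · obtain ⟨h2, he24⟩ := hq8 ε
      have hp3 : 3 ≤ p := by
        have := hp.two_le
        rcases Nat.lt_or_ge p 3 with h | h
        · exfalso
          apply h2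
          have : p = 2 := by omega
          rw [this]
        · exact h
      exact nf_arith24 hp3 h2 hk h2k hfac ha0 hak he24 hc
    · have h120 : Nat.card N = 120 := by
        rw [Nat.card_congr ε.toEquiv]
        exact Cfsg.Agent.Lib.Helper32.AutSL25.card_SL25
      have h2 : ¬ 2 ∣ p :=
        nf_not_dvd hn0 hp.pos (by norm_num) (Dvd.dvd.trans (by rw [h120]; norm_num) hNH)
      have h3 : ¬ 3 ∣ p :=
        nf_not_dvd hn0 hp.pos (by norm_num) (Dvd.dvd.trans (by rw [h120]; norm_num) hNH)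
      have h5 : ¬ 5 ∣ p :=
        nf_not_dvd hn0 hp.pos (by norm_num) (Dvd.dvd.trans (by rw [h120]; norm_num) hNH)
      have he120 : e ∣ 120 := by
        refine he.trans ?_
        rw [Nat.card_congr (MulAut.congr ε).toEquiv]
        exact Cfsg.Agent.Lib.Helper32.AutSL25.card_mulAut_SL25_dvd
      have hp7 : 7 ≤ p := by
        have := hp.two_le
        by_contra hcon
        have : p < 7 := by omega
        interval_cases p
        · exact h2 (by norm_num)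
        · exact h3 (by norm_num)
        · exact h2 (by norm_num)
        · exact h5 (by norm_num)
        · exact h2 (by norm_num)
      exact nf_arith120 hp7 h2 h3 h5 hk h2k hfac ha0 hak he120 hc
  obtain ⟨hk1, hn2⟩ := hkn
  have ha1 : a = 1 := by omega
  refine ⟨hn2, ?_, ?_⟩
  · have htop : centralizer (A : Set H) = ⊤ := by
      rw [← index_eq_one, ← ha, ha1]
    rw [htop, top_inf_eq] at hB
    exact hB
  · rintro ⟨ε⟩
    obtain ⟨h2, he24⟩ := hq8 ε
    refine ⟨?_, h2⟩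
    rw [hn2, ha1, one_mul] at hfac
    rw [hk1, pow_one] at hc
    exact nf_succ_dvd hp.two_le hfac he24 hc

theorem nf_p_cases {p : ℕ} (h24 : p + 1 ∣ 24) (hodd : ¬ 2 ∣ p) (hp : 2 ≤ p) :
    p = 3 ∨ p = 5 ∨ p = 7 ∨ p = 11 ∨ p = 23 := by
  have : p ≤ 23 := by
    have := Nat.le_of_dvd (by norm_num) h24
    omega
  interval_cases p <;> omega

theorem nf_not_three (H : Subgroup (V ≃ₗ[ZMod p] V))
    (hreg : ∀ v w : V, v ≠ 0 → w ≠ 0 → ∃! h : H, (h : V ≃ₗ[ZMod p] V) v = w)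
    (hI : ∀ A : Subgroup H, A.Normal → IsCyclic A → ∃ W : Submodule (ZMod p) V, W ≠ ⊥ ∧ W ≠ ⊤ ∧
      ∀ a ∈ A, ∀ v ∈ W, ((a : H) : V ≃ₗ[ZMod p] V) v ∈ W)
    (hn2 : Module.finrank (ZMod p) V = 2) (hp3 : p = 3) (N : Subgroup H) (hQ : HasQuat N) :
    False := by
  classical
  haveI := Cfsg.Agent.Lib.Helper55.finite_of_linearEquiv_subgroup H
  obtain ⟨I, -, h1, h2, -, -⟩ := hQ
  have hx : orderOf (I : H) = 2 ^ 2 := by
    apply orderOf_eq_prime_pow (p := 2) (n := 1)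
    · intro h
      apply h1
      apply Subtype.ext
      rw [pow_one, sq] at h
      exact h
    · have := congrArg Subtype.val h2
      calc (I : H) ^ 2 ^ (1 + 1) = ((I : H) * I) * ((I : H) * I) := by
            norm_num [pow_succ, mul_assoc]
        _ = 1 := this
  haveI : Nontrivial V := Module.nontrivial_of_finrank_pos (R := ZMod p) (by omega)
  obtain ⟨w, hw0⟩ := exists_ne (0 : V)
  have hcard : Nat.card H = 8 := by
    have h8 : p ^ 2 - 1 = 8 := by rw [hp3]; norm_num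
    rw [nf_card_H H hreg w hw0, hn2, h8]
  have hZ : Nat.card (zpowers (I : H)) = 4 := by rw [Nat.card_zpowers, hx]; norm_num
  have hidx : (zpowers (I : H)).index = 2 := by
    have := card_mul_index (zpowers (I : H))
    rw [hZ, hcard] at this
    omega
  obtain ⟨W, hWne, hWtop, hWinv⟩ := hI _ (normal_of_index_eq_two hidx) inferInstance
  have hfreeH : ∀ h : H, ∀ v : V, v ≠ 0 → (h : V ≃ₗ[ZMod p] V) v = v → h = 1 := by
    intro h v hv hh
    obtain ⟨h₀, _, huniq⟩ := hreg v v hv hv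
    rw [huniq h hh, huniq 1 (by simp)]
  have hd := Cfsg.Agent.Lib.Helper12.LinReg.card_dvd
    (H.subtype.comp (zpowers (I : H)).subtype)
    (fun g v hv hg => Subtype.ext (hfreeH g.1 v hv hg)) W (fun g v hv => hWinv g.1 g.2 v hv)
  have hW1 : Module.finrank (ZMod p) W = 1 := by
    have h3 : Module.finrank (ZMod p) W ≠ 0 := fun h0 => hWne (Submodule.finrank_eq_zero.mp h0)
    have h4 := Submodule.finrank_lt hWtop
    omega
  have h2' : p ^ 1 - 1 = 2 := by rw [hp3]; norm_num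
  rw [hZ, hW1, h2'] at hd
  revert hd
  decide

end

end Cfsg.Agent.Lib.Helper96
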