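import Mathlib
import Cfsg.Agent.Lib.Helper53.Zas.Basic
import Cfsg.Agent.Lib.Helper62.SL25
import Cfsg.Agent.S3278

set_option autoImplicit false
set_option linter.style.haveILetI false
set_option linter.unusedSectionVars false

/-! Endgame of Zassenhaus' theorem on perfect fixed-point-free groups (piece P4 for helper53). -/

namespace Cfsg.Agent.Lib.Helper96

open Subgroup Cfsg.Agent.Lib.Helper53.Zas

set_option maxRecDepth 100000 in
theorem zq_word : ∀ I J x : QuaternionGroup 2, I * J ≠ J * I →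
    ∃ a b : Fin 4, x = I ^ (a : ℕ) * J ^ (b : ℕ) := by decide

set_option maxRecDepth 100000 in
theorem zq_four : ∀ I J m : QuaternionGroup 2, I * J ≠ J * I → m * m ≠ 1 →
    (m = I ∨ m = I⁻¹ ∨ m = J ∨ m = J⁻¹ ∨ m = I * J ∨ m = (I * J)⁻¹) := by decide

theorem zq_sq : ∀ x : QuaternionGroup 2, (x * x) * (x * x) = 1 := by decide

theorem zq_comm : ∀ x y : QuaternionGroup 2,
    (x * y * x⁻¹ * y⁻¹) * (x * y * x⁻¹ * y⁻¹) = 1 := by decide

variable {G : Type*} [Group G] [Finite G]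

theorem zas_inv' {i j d : G} (T : TD i j d) : j⁻¹ * i * j = i⁻¹ := by
  have h1 := T.inv
  have h2 : i = j⁻¹ * i⁻¹ * j := by rw [← h1]; group
  calc j⁻¹ * i * j = (j⁻¹ * i⁻¹ * j)⁻¹ := by group
    _ = i⁻¹ := by rw [← h2]

theorem zas_pgroup {i j d : G} (T : TD i j d) :
    IsPGroup 2 (zpowers j ⊔ zpowers i : Subgroup G) := by
  have hi : IsPGroup 2 (zpowers i) :=
    IsPGroup.of_card (n := 2) (by rw [Nat.card_zpowers, T.orderOf_i]; norm_num)
  have hj : IsPGroup 2 (zpowers j) :=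
    IsPGroup.of_card (n := 2) (by rw [Nat.card_zpowers, T.rot.orderOf_i]; norm_num)
  apply hj.to_sup_of_normal_right' hi
  rw [zpowers_le, mem_normalizer_iff]
  intro x
  constructor
  · intro hx
    obtain ⟨k, rfl⟩ := mem_zpowers_iff.mp hx
    rw [← conj_zpow, T.inv]
    exact zpow_mem (inv_mem (mem_zpowers i)) k
  · intro hx
    obtain ⟨k, hk⟩ := mem_zpowers_iff.mp hx
    have : x = (j⁻¹ * i * j) ^ k := by
      have h1 : j⁻¹ * i * j = j⁻¹ * i * j⁻¹⁻¹ := by rw [inv_inv]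
      rw [h1, conj_zpow, hk]
      group
    rw [this, zas_inv' T]
    exact zpow_mem (inv_mem (mem_zpowers i)) k

theorem zas_n_le_one (hsq : ∀ i j d : G, TD i j d → ∀ α : G, α ^ 2 ≠ i)
    (hYZ : ∀ i j d c : G, TD i j d → c * i = i * c → j * c * j⁻¹ = c⁻¹ →
      c ∈ zpowers i ∨ ∃ β : G, β ^ 2 = i)
    {P : Subgroup G} {n : ℕ} (e : P ≃* QuaternionGroup (2 ^ n)) {i j d : G} (T : TD i j d)
    (hi : i ∈ P) (hj : j ∈ P) (k l : ZMod (2 * 2 ^ n)) (hI : e ⟨i, hi⟩ = QuaternionGroup.a k)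
    (hJ : e ⟨j, hj⟩ = QuaternionGroup.xa l) : n ≤ 1 := by
  set α : P := e.symm (QuaternionGroup.a 1) with hα
  have h1 : (α : G) * i = i * α := by
    have : α * ⟨i, hi⟩ = ⟨i, hi⟩ * α := by
      apply e.injective
      rw [map_mul, map_mul, hI, hα, e.apply_symm_apply, QuaternionGroup.a_mul_a,
        QuaternionGroup.a_mul_a, add_comm]
    exact congrArg Subtype.val this
  have h2 : (α : G) * j * α = j := by
    have : α * ⟨j, hj⟩ * α = ⟨j, hj⟩ := by
      apply e.injective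
      rw [map_mul, map_mul, hJ, hα, e.apply_symm_apply, QuaternionGroup.a_mul_xa,
        QuaternionGroup.xa_mul_a]
      congr 1
      ring
    exact congrArg Subtype.val this
  have h3 : j * α * j⁻¹ = (α : G)⁻¹ := by
    calc j * α * j⁻¹ = (α : G)⁻¹ * (α * j * α) * j⁻¹ := by group
      _ = _ := by rw [h2]; group
  rcases hYZ i j d α T h1 h3 with h4 | ⟨β, hβ⟩
  · obtain ⟨m, hm⟩ := mem_zpowers_iff.mp h4
    have h5 : (α : G) ^ 4 = 1 := by
      rw [← hm, ← zpow_natCast, ← zpow_mul, mul_comm, zpow_mul, zpow_natCast, T.i4, one_zpow]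
    have h6 : (QuaternionGroup.a 1 : QuaternionGroup (2 ^ n)) ^ 4 = 1 := by
      have h7 : α ^ 4 = 1 := Subtype.ext (by simpa using h5)
      have h8 := congrArg e h7
      rwa [map_pow, map_one, hα, e.apply_symm_apply] at h8
    have h7 := orderOf_dvd_of_pow_eq_one h6
    rw [QuaternionGroup.orderOf_a_one] at h7
    by_contra hcon
    have h8 : 2 ^ 2 ≤ 2 ^ n := Nat.pow_le_pow_right (by norm_num) (by omega)
    have h9 := Nat.le_of_dvd (by norm_num) h7
    omega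
  · exact absurd hβ (hsq i j d T β)

theorem zas_sylow (h : ZHyp G) (hsq : ∀ i j d : G, TD i j d → ∀ α : G, α ^ 2 ≠ i)
    (hYZ : ∀ i j d c : G, TD i j d → c * i = i * c → j * c * j⁻¹ = c⁻¹ →
      c ∈ zpowers i ∨ ∃ β : G, β ^ 2 = i) {i j d : G} (T : TD i j d) :
    ∃ P : Sylow 2 G, i ∈ P ∧ j ∈ P ∧ Nonempty (P ≃* QuaternionGroup 2) := by
  haveI : Fact (Nat.Prime 2) := ⟨Nat.prime_two⟩
  obtain ⟨P, hP⟩ := (zas_pgroup T).exists_le_sylow
  have hi : i ∈ P := hP (mem_sup_right (mem_zpowers i))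
  have hj : j ∈ P := hP (mem_sup_left (mem_zpowers j))
  refine ⟨P, hi, hj, ?_⟩
  have hnc : ∀ (X : Type) [Group X] (e : P ≃* X), IsCyclic X → False := by
    intro X _ e hc
    letI := hc.commGroup
    apply T.ne_comm
    have : (⟨i, hi⟩ : P) * ⟨j, hj⟩ = ⟨j, hj⟩ * ⟨i, hi⟩ := by
      apply e.injective
      rw [map_mul, map_mul]
      exact mul_comm _ _
    exact congrArg Subtype.val this
  rcases Cfsg.Agent.Lib.Helper25.sylow_cyclic_or_quaternion_of_key h.key0 2 P with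
    hc | ⟨-, n, ⟨e⟩⟩
  · exfalso
    letI := hc.commGroup
    apply T.ne_comm
    exact congrArg Subtype.val (mul_comm (⟨i, hi⟩ : P) ⟨j, hj⟩)
  · have hij : i * j ∈ P := mul_mem hi hj
    have heij : e ⟨i * j, hij⟩ = e ⟨i, hi⟩ * e ⟨j, hj⟩ := by
      rw [← map_mul]
      rfl
    have hn : n ≤ 1 := by
      rcases hI : e ⟨i, hi⟩ with k | k <;> rcases hJ : e ⟨j, hj⟩ with l | l
      · exfalso
        apply T.ne_comm
        have : (⟨i, hi⟩ : P) * ⟨j, hj⟩ = ⟨j, hj⟩ * ⟨i, hi⟩ := by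
          apply e.injective
          rw [map_mul, map_mul, hI, hJ, QuaternionGroup.a_mul_a, QuaternionGroup.a_mul_a,
            add_comm]
        exact congrArg Subtype.val this
      · exact zas_n_le_one hsq hYZ e T hi hj k l hI hJ
      · rw [hI, hJ, QuaternionGroup.xa_mul_a] at heij
        exact zas_n_le_one hsq hYZ e T.rot hj hij l _ hJ heij
      · rw [hI, hJ, QuaternionGroup.xa_mul_xa] at heij
        exact zas_n_le_one hsq hYZ e T.rot2 hij hi _ k heij hI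
    interval_cases n
    · exfalso
      exact hnc _ e QuaternionGroup.quaternionGroup_one_isCyclic
    · exact ⟨e⟩

/-- P4 a) -/
theorem zas_not_sixteen (h : ZHyp G) (hsq : ∀ i j d : G, TD i j d → ∀ α : G, α ^ 2 ≠ i)
    (hYZ : ∀ i j d c : G, TD i j d → c * i = i * c → j * c * j⁻¹ = c⁻¹ →
      c ∈ zpowers i ∨ ∃ β : G, β ^ 2 = i) {i j d : G} (T : TD i j d) : ¬ 16 ∣ Nat.card G := by
  haveI : Fact (Nat.Prime 2) := ⟨Nat.prime_two⟩
  obtain ⟨P, -, -, ⟨e⟩⟩ := zas_sylow h hsq hYZ T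
  have h8 : Nat.card P = 8 := by
    rw [Nat.card_congr e.toEquiv, Nat.card_eq_fintype_card, QuaternionGroup.card]
  intro h16
  have h1 := P.card_eq_multiplicity
  have h2 : 4 ≤ (Nat.card G).factorization 2 :=
    (Nat.Prime.pow_dvd_iff_le_factorization Nat.prime_two Nat.card_pos.ne').mp (by simpa using h16)
  have h3 : 2 ^ 4 ≤ 2 ^ (Nat.card G).factorization 2 := Nat.pow_le_pow_right (by norm_num) h2
  rw [← h1, h8] at h3
  omega

/-- P4 b) -/
theorem zas_comm_mem (h : ZHyp G) (hsq : ∀ i j d : G, TD i j d → ∀ α : G, α ^ 2 ≠ i)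
    (hYZ : ∀ i j d c : G, TD i j d → c * i = i * c → j * c * j⁻¹ = c⁻¹ →
      c ∈ zpowers i ∨ ∃ β : G, β ^ 2 = i) {i j d : G} (T : TD i j d) {c : G}
    (hc : c * i = i * c) : c * j * c⁻¹ * j⁻¹ ∈ zpowers i := by
  have hw : ∀ g, g * j ^ 2 = j ^ 2 * g := by
    rw [T.j2]
    exact h.central T.orderOf_z
  have s1 : SemiconjBy j⁻¹ i i⁻¹ := by
    change j⁻¹ * i = i⁻¹ * j⁻¹
    rw [← zas_inv' T]
    group
  have s2 : SemiconjBy c⁻¹ i⁻¹ i⁻¹ := by
    have : Commute c i := hc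
    exact this.inv_inv
  have s3 : SemiconjBy j i⁻¹ i := by
    change j * i⁻¹ = i * j
    calc j * i⁻¹ = (j * i * j⁻¹)⁻¹ * j := by group
      _ = i * j := by rw [T.inv, inv_inv]
  have s4 : SemiconjBy c i i := hc
  have h1 : (c * j * c⁻¹ * j⁻¹) * i = i * (c * j * c⁻¹ * j⁻¹) :=
    (((s4.mul_left s3).mul_left s2).mul_left s1)
  have h2 : j * (c * j * c⁻¹ * j⁻¹) * j⁻¹ = (c * j * c⁻¹ * j⁻¹)⁻¹ := by
    have h3 : c⁻¹ * (j ^ 2)⁻¹ = (j ^ 2)⁻¹ * c⁻¹ := by
      have : Commute c (j ^ 2) := hw c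
      exact this.inv_inv
    calc j * (c * j * c⁻¹ * j⁻¹) * j⁻¹ = j * c * (j * (c⁻¹ * (j ^ 2)⁻¹)) := by group
      _ = j * c * (j * ((j ^ 2)⁻¹ * c⁻¹)) := by rw [h3]
      _ = (c * j * c⁻¹ * j⁻¹)⁻¹ := by group
  rcases hYZ i j d _ T h1 h2 with h3 | ⟨β, hβ⟩
  · exact h3
  · exact absurd hβ (hsq i j d T β)

/-- P4 c) -/
theorem zas_normal (h : ZHyp G) (hsq : ∀ i j d : G, TD i j d → ∀ α : G, α ^ 2 ≠ i)
    (hYZ : ∀ i j d c : G, TD i j d → c * i = i * c → j * c * j⁻¹ = c⁻¹ →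
      c ∈ zpowers i ∨ ∃ β : G, β ^ 2 = i)
    (hP1d : ∀ z : G, orderOf z = 2 → ∀ M : Subgroup G, M.Normal →
      (∀ m ∈ M, orderOf m ≠ 4) → M ≤ zpowers z)
    (hP1e : ∀ M : Subgroup G, M.Normal → ¬ 2 ∣ M.index → M = ⊤)
    {i j d : G} (T : TD i j d) (M : Subgroup G) [hMn : M.Normal] :
    M ≤ zpowers (i ^ 2) ∨ M = ⊤ := by
  haveI : Fact (Nat.Prime 2) := ⟨Nat.prime_two⟩
  by_cases hM : ∀ m ∈ M, orderOf m ≠ 4
  · left
    exact hP1d _ T.orderOf_z M hMn hM
  right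
  push Not at hM
  obtain ⟨m, hmM, hm4⟩ := hM
  obtain ⟨P, hi, hj, ⟨e⟩⟩ := zas_sylow h hsq hYZ T
  have hpm : IsPGroup 2 (zpowers m) :=
    IsPGroup.of_card (n := 2) (by rw [Nat.card_zpowers, hm4]; norm_num)
  obtain ⟨P', hP'⟩ := hpm.exists_le_sylow
  obtain ⟨g, hg⟩ := MulAction.exists_smul_eq G P' P
  have hmP : g * m * g⁻¹ ∈ P := by
    rw [← hg]
    change g * m * g⁻¹ ∈ ((g • P' : Sylow 2 G) : Subgroup G)
    rw [Sylow.coe_subgroup_smul]
    exact Subgroup.smul_mem_pointwise_smul m (MulAut.conj g) _ (hP' (mem_zpowers m))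
  have hmM' : g * m * g⁻¹ ∈ M := hMn.conj_mem m hmM g
  have hm2 : (g * m * g⁻¹) * (g * m * g⁻¹) ≠ 1 := by
    intro hcon
    have h1 : m ^ 2 = 1 := by
      rw [← pow_two, conj_pow, conj_eq_one_iff] at hcon
      exact hcon
    have := orderOf_dvd_of_pow_eq_one h1
    rw [hm4] at this
    omega
  have hIJ : e ⟨i, hi⟩ * e ⟨j, hj⟩ ≠ e ⟨j, hj⟩ * e ⟨i, hi⟩ := by
    intro hcon
    rw [← map_mul, ← map_mul] at hcon
    exact T.ne_comm (congrArg Subtype.val (e.injective hcon))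
  have hone : i ∈ M ∨ j ∈ M ∨ i * j ∈ M := by
    have h1 := zq_four _ _ (e ⟨_, hmP⟩) hIJ (by
      intro hcon
      rw [← map_mul] at hcon
      exact hm2 (congrArg Subtype.val (e.injective (hcon.trans (map_one e).symm))))
    rcases h1 with h1 | h1 | h1 | h1 | h1 | h1
    · left
      have : g * m * g⁻¹ = i := congrArg Subtype.val (e.injective h1)
      exact this ▸ hmM'
    · left
      rw [← map_inv] at h1
      have : g * m * g⁻¹ = i⁻¹ := congrArg Subtype.val (e.injective h1)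
      rw [this] at hmM'
      exact inv_mem_iff.mp hmM'
    · right; left
      have : g * m * g⁻¹ = j := congrArg Subtype.val (e.injective h1)
      exact this ▸ hmM'
    · right; left
      rw [← map_inv] at h1
      have : g * m * g⁻¹ = j⁻¹ := congrArg Subtype.val (e.injective h1)
      rw [this] at hmM'
      exact inv_mem_iff.mp hmM'
    · right; right
      rw [← map_mul] at h1
      have : g * m * g⁻¹ = i * j := congrArg Subtype.val (e.injective h1)
      exact this ▸ hmM'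
    · right; right
      rw [← map_mul, ← map_inv] at h1
      have : g * m * g⁻¹ = (i * j)⁻¹ := congrArg Subtype.val (e.injective h1)
      rw [this] at hmM'
      exact inv_mem_iff.mp hmM'
  have hstep1 : i ∈ M → j ∈ M := fun hx => T.di ▸ hMn.conj_mem i hx d
  have hstep2 : j ∈ M → i * j ∈ M := fun hx => T.dj ▸ hMn.conj_mem j hx d
  have hstep3 : i * j ∈ M → i ∈ M := fun hx => by
    have h1 := hMn.conj_mem _ hx d
    have h2 : d * (i * j) * d⁻¹ = (d * i * d⁻¹) * (d * j * d⁻¹) := by group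
    rw [h2, T.di, T.dj, T.j_ij] at h1
    exact h1
  have hiM : i ∈ M := by
    rcases hone with h1 | h1 | h1
    · exact h1
    · exact hstep3 (hstep2 h1)
    · exact hstep3 h1
  have hjM : j ∈ M := hstep1 hiM
  have hPM : (P : Subgroup G) ≤ M := by
    intro x hx
    obtain ⟨a, b, hab⟩ := zq_word _ _ (e ⟨x, hx⟩) hIJ
    rw [← map_pow, ← map_pow, ← map_mul] at hab
    have : x = i ^ (a : ℕ) * j ^ (b : ℕ) := congrArg Subtype.val (e.injective hab)
    rw [this]
    exact mul_mem (pow_mem hiM _) (pow_mem hjM _)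
  have h8 : Nat.card P = 8 := by
    rw [Nat.card_congr e.toEquiv, Nat.card_eq_fintype_card, QuaternionGroup.card]
  have h8M : 8 ∣ Nat.card M := by
    rw [← h8]
    exact card_dvd_of_le hPM
  apply hP1e M hMn
  intro h2
  apply zas_not_sixteen h hsq hYZ T
  rw [← card_mul_index M]
  exact mul_dvd_mul h8M h2

/-- P4 d) -/
theorem zas_endgame (h : ZHyp G) (hperf : commutator G = ⊤)
    (hsq : ∀ i j d : G, TD i j d → ∀ α : G, α ^ 2 ≠ i)
    (hYZ : ∀ i j d c : G, TD i j d → c * i = i * c → j * c * j⁻¹ = c⁻¹ →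
      c ∈ zpowers i ∨ ∃ β : G, β ^ 2 = i)
    (hP1d : ∀ z : G, orderOf z = 2 → ∀ M : Subgroup G, M.Normal →
      (∀ m ∈ M, orderOf m ≠ 4) → M ≤ zpowers z)
    (hP1e : ∀ M : Subgroup G, M.Normal → ¬ 2 ∣ M.index → M = ⊤)
    {i j d : G} (T : TD i j d) :
    Nonempty (G ≃* Matrix.SpecialLinearGroup (Fin 2) (ZMod 5)) := by
  haveI : Fact (Nat.Prime 2) := ⟨Nat.prime_two⟩
  obtain ⟨P, hi, hj, ⟨e⟩⟩ := zas_sylow h hsq hYZ T
  have h8 : Nat.card P = 8 := by
    rw [Nat.card_congr e.toEquiv, Nat.card_eq_fintype_card, QuaternionGroup.card]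
  have hIJ : e ⟨i, hi⟩ * e ⟨j, hj⟩ ≠ e ⟨j, hj⟩ * e ⟨i, hi⟩ := by
    intro hcon
    rw [← map_mul, ← map_mul] at hcon
    exact T.ne_comm (congrArg Subtype.val (e.injective hcon))
  have hzo : orderOf (i ^ 2) = 2 := T.orderOf_z
  have hzc : ∀ g, g * i ^ 2 = i ^ 2 * g := h.central hzo
  let Z : Subgroup G := zpowers (i ^ 2)
  haveI hZn : Z.Normal := by
    constructor
    intro n hn g
    obtain ⟨k, rfl⟩ := mem_zpowers_iff.mp hn
    have h1 : g * i ^ 2 * g⁻¹ = i ^ 2 := by rw [hzc g]; group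
    rw [← conj_zpow, h1]
    exact zpow_mem (mem_zpowers _) k
  have hZcard : Nat.card Z = 2 := by rw [Nat.card_zpowers, hzo]
  have hZmem : ∀ s : G, s ^ 2 = 1 → s ∈ Z := by
    intro s hs
    by_cases hs1 : s = 1
    · rw [hs1]; exact one_mem _
    · rw [h.eq_of_sq hzo hs hs1]; exact mem_zpowers _
  have hZsq : ∀ s ∈ Z, s ^ 2 = 1 := by
    intro s hs
    obtain ⟨k, rfl⟩ := mem_zpowers_iff.mp hs
    rw [← zpow_natCast, ← zpow_mul, mul_comm, zpow_mul, zpow_natCast, ← pow_mul, T.i4, one_zpow]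
  let π : G →* G ⧸ Z := QuotientGroup.mk' Z
  have hπ : ∀ g, π g = 1 ↔ g ∈ Z := fun g => QuotientGroup.eq_one_iff g
  have hπs : Function.Surjective π := QuotientGroup.mk'_surjective Z
  have hiZ : i ∉ Z := fun hcon => T.i2 (hZsq i hcon)
  haveI : Nontrivial (G ⧸ Z) := ⟨⟨π i, 1, fun hcon => hiZ ((hπ i).mp hcon)⟩⟩
  haveI : IsSimpleGroup (G ⧸ Z) := ⟨fun N hN => by
    haveI := hN
    rcases zas_normal h hsq hYZ hP1d hP1e T (N.comap π) with h1 | h1
    · left
      rw [eq_bot_iff]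
      intro n hn
      obtain ⟨g, rfl⟩ := hπs n
      exact mem_bot.mpr ((hπ g).mpr (h1 hn))
    · right
      rw [eq_top_iff]
      intro n _
      obtain ⟨g, rfl⟩ := hπs n
      have : g ∈ N.comap π := h1 ▸ mem_top g
      exact this⟩
  have hx : orderOf (π i) = 2 :=
    orderOf_eq_prime (by rw [← map_pow]; exact (hπ _).mpr (mem_zpowers _))
      (fun hcon => hiZ ((hπ i).mp hcon))
  let S₀ : Subgroup (G ⧸ Z) := (P : Subgroup G).map π
  have hZP : Z ≤ P := by
    rw [zpowers_le]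
    exact pow_mem hi 2
  have hS₀card : Nat.card S₀ = 4 := by
    let ψ : P →* S₀ := π.subgroupMap (P : Subgroup G)
    have hψs : Function.Surjective ψ := π.subgroupMap_surjective _
    have hker : ψ.ker = Z.subgroupOf P := by
      ext x
      rw [MonoidHom.mem_ker, mem_subgroupOf, ← hπ]
      constructor
      · intro hx
        exact congrArg Subtype.val hx
      · intro hx
        exact Subtype.ext hx
    have h1 := card_mul_index ψ.ker
    rw [index_ker, MonoidHom.range_eq_top_of_surjective ψ hψs, card_top, hker,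
      Nat.card_congr (subgroupOfEquivOfLe hZP).toEquiv, hZcard, h8] at h1
    omega
  have hPsq : ∀ x ∈ P, π x ^ 2 = 1 := by
    intro x hx
    rw [← map_pow, hπ]
    apply hZmem
    have h1 := zq_sq (e ⟨x, hx⟩)
    rw [← map_mul, ← map_mul] at h1
    have h2 : (x * x) * (x * x) = 1 := congrArg Subtype.val (e.injective (h1.trans (map_one e).symm))
    rw [pow_two, pow_two]
    exact h2
  have hK : IsKleinFour S₀ := by
    refine ⟨hS₀card, ?_⟩
    have h1 : Monoid.exponent S₀ ∣ 2 := by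
      apply Monoid.exponent_dvd_of_forall_pow_eq_one
      rintro ⟨_, x, hx, rfl⟩
      exact Subtype.ext (hPsq x hx)
    rcases (Nat.dvd_prime Nat.prime_two).mp h1 with h2 | h2
    · exfalso
      rw [Monoid.exp_eq_one_iff] at h2
      have := Nat.card_of_subsingleton (1 : S₀)
      omega
    · exact h2
  have hle : S₀ ≤ centralizer ({π i} : Set (G ⧸ Z)) := by
    rintro _ ⟨x, hx, rfl⟩
    rw [mem_centralizer_iff]
    rintro _ rfl
    have h1 := zq_comm (e ⟨x, hx⟩) (e ⟨i, hi⟩)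
    rw [← map_inv, ← map_inv, ← map_mul, ← map_mul, ← map_mul, ← map_mul] at h1
    have h2 : (x * i * x⁻¹ * i⁻¹) * (x * i * x⁻¹ * i⁻¹) = 1 :=
      congrArg Subtype.val (e.injective (h1.trans (map_one e).symm))
    have h3 : π (x * i * x⁻¹ * i⁻¹) = 1 := (hπ _).mpr (hZmem _ (by rw [pow_two]; exact h2))
    have h4 : x * i = (x * i * x⁻¹ * i⁻¹) * (i * x) := by group
    calc π i * π x = π (x * i * x⁻¹ * i⁻¹) * π (i * x) := by rw [h3, one_mul, map_mul]
      _ = π (x * i) := by rw [← map_mul, ← h4]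
      _ = π x * π i := map_mul _ _ _
  have hodd : ¬ 2 ∣ S₀.relIndex (centralizer ({π i} : Set (G ⧸ Z))) := by
    intro h2
    apply zas_not_sixteen h hsq hYZ T
    have h1 := relIndex_mul_relIndex ⊥ S₀ (centralizer ({π i} : Set (G ⧸ Z))) bot_le hle
    rw [relIndex_bot_left, relIndex_bot_left, hS₀card] at h1
    have h3 : 8 ∣ Nat.card (centralizer ({π i} : Set (G ⧸ Z))) := by
      rw [← h1]
      exact mul_dvd_mul (dvd_refl 4) h2
    have h4 : 8 ∣ Nat.card (G ⧸ Z) := h3.trans (card_subgroup_dvd_card _)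
    rw [card_eq_card_quotient_mul_card_subgroup Z, hZcard]
    exact mul_dvd_mul h4 (dvd_refl 2)
  have hnorm : ∀ g₀ : G, π i * π g₀ = π g₀ * π i → ∀ x ∈ P, g₀ * x * g₀⁻¹ ∈ P := by
    intro g₀ hg₀
    have ht : g₀ * i * g₀⁻¹ * i⁻¹ ∈ Z := by
      rw [← hπ, map_mul, map_mul, map_mul, ← hg₀, map_inv, map_inv]
      group
    have hzi : zpowers i ≤ P := by
      rw [zpowers_le]
      exact hi
    have hboth : g₀ * i * g₀⁻¹ ∈ P ∧ g₀ * j * g₀⁻¹ ∈ P := by
      by_cases ht1 : g₀ * i * g₀⁻¹ * i⁻¹ = 1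
      · have h1 : g₀ * i * g₀⁻¹ = i := mul_inv_eq_one.mp ht1
        have h2 : g₀ * i = i * g₀ := mul_inv_eq_iff_eq_mul.mp h1
        refine ⟨by rw [h1]; exact hi, ?_⟩
        have h3 := hzi (zas_comm_mem h hsq hYZ T h2)
        have h4 := mul_mem h3 hj
        rw [inv_mul_cancel_right] at h4
        exact h4
      · have h1 : g₀ * i * g₀⁻¹ * i⁻¹ = i ^ 2 := h.eq_of_sq hzo (hZsq _ ht) ht1
        have h2 : g₀ * i * g₀⁻¹ = i⁻¹ := by
          rw [mul_inv_eq_iff_eq_mul, ← pow_succ] at h1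
          rw [h1, T.inv_i]
        refine ⟨by rw [h2]; exact inv_mem hi, ?_⟩
        have h3 : (g₀ * j) * i = i * (g₀ * j) := by
          have h5 : (g₀ * j) * i * (g₀ * j)⁻¹ = i := by
            calc (g₀ * j) * i * (g₀ * j)⁻¹ = g₀ * (j * i * j⁻¹) * g₀⁻¹ := by group
              _ = (g₀ * i * g₀⁻¹)⁻¹ := by rw [T.inv]; group
              _ = i := by rw [h2, inv_inv]
          exact mul_inv_eq_iff_eq_mul.mp h5
        have h4 := mul_mem (hzi (zas_comm_mem h hsq hYZ T h3)) hj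
        have h6 : g₀ * j * j * (g₀ * j)⁻¹ * j⁻¹ * j = g₀ * j * g₀⁻¹ := by group
        rw [h6] at h4
        exact h4
    intro x hx
    obtain ⟨a, b, hab⟩ := zq_word _ _ (e ⟨x, hx⟩) hIJ
    rw [← map_pow, ← map_pow, ← map_mul] at hab
    have h1 : x = i ^ (a : ℕ) * j ^ (b : ℕ) := congrArg Subtype.val (e.injective hab)
    have h2 : g₀ * x * g₀⁻¹ = (g₀ * i * g₀⁻¹) ^ (a : ℕ) * (g₀ * j * g₀⁻¹) ^ (b : ℕ) := by
      rw [conj_pow, conj_pow, h1]
      group
    rw [h2]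
    exact mul_mem (pow_mem hboth.1 _) (pow_mem hboth.2 _)
  have hn : (S₀.subgroupOf (centralizer ({π i} : Set (G ⧸ Z)))).Normal := by
    constructor
    rintro ⟨n, hnC⟩ hnS ⟨g, hgC⟩
    rw [mem_subgroupOf] at hnS ⊢
    obtain ⟨x, hx, hxn⟩ := hnS
    obtain ⟨g₀, rfl⟩ := hπs g
    have h1 := mem_centralizer_iff.mp hgC (π i) rfl
    refine ⟨g₀ * x * g₀⁻¹, hnorm g₀ h1 x hx, ?_⟩
    change π (g₀ * x * g₀⁻¹) = π g₀ * n * (π g₀)⁻¹
    change π x = n at hxn
    rw [map_mul, map_mul, map_inv, hxn]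
  obtain ⟨φ⟩ := Cfsg.Agent.S3278.result (π i) hx S₀ hle hK hodd hn
  let f : G →* alternatingGroup (Fin 5) := φ.toMonoidHom.comp π
  have hf : Function.Surjective f := φ.surjective.comp hπs
  have hk : Nat.card f.ker = 2 := by
    have : f.ker = Z := by
      ext g
      rw [MonoidHom.mem_ker, ← hπ]
      change φ (π g) = 1 ↔ _
      exact EmbeddingLike.map_eq_one_iff
    rw [this, hZcard]
  exact Cfsg.Agent.Lib.Helper62.sl25_of_central_ext hperf f hf hk

end Cfsg.Agent.Lib.Helper96
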