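import Mathlib
import Cfsg.Agent.Lib.Helper96.NearFieldMain

set_option autoImplicit false
set_option linter.style.haveILetI false

/-! The exceptional near-fields, modulo Zassenhaus' theorem on perfect Frobenius complements. -/

namespace Cfsg.Agent.Lib.Helper96

open Subgroup Cfsg.Agent.Lib.Helper66 Cfsg.Agent.Lib.Helper32.FrobSL25

section
variable {p : ℕ} [Fact p.Prime] {V : Type*} [AddCommGroup V] [Module (ZMod p) V] [Finite V]

theorem nf_min_normal (hZ : ZassHyp) (H : Subgroup (V ≃ₗ[ZMod p] V))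
    (hreg : ∀ v w : V, v ≠ 0 → w ≠ 0 → ∃! h : H, (h : V ≃ₗ[ZMod p] V) v = w)
    (A : Subgroup H) (hAn : A.Normal) (hAc : IsMulCommutative A)
    (hAmax : ∀ B : Subgroup H, B.Normal → IsMulCommutative B → A ≤ B → B = A)
    (N : Subgroup H) (hNn : N.Normal) (hNle : N ≤ centralizer (A : Set H))
    (hNna : ¬ IsMulCommutative N)
    (hNmin : ∀ M : Subgroup H, M.Normal → M ≤ N → ¬ IsMulCommutative M → M = N) :
    Nonempty (N ≃* QuaternionGroup 2) ∨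
      Nonempty (N ≃* Matrix.SpecialLinearGroup (Fin 2) (ZMod 5)) := by
  haveI := Cfsg.Agent.Lib.Helper55.finite_of_linearEquiv_subgroup H
  have hFC := nf_fc H hreg N hNna
  by_cases hperf : ⁅N, N⁆ = N
  · right
    refine hFC.perfect_equiv hZ ?_ hperf
    rintro rfl
    exact hNna inferInstance
  · left
    exact nf_quaternion_of_not_perfect hFC.fc A hAn hAc hAmax N hNn hNle hNna hNmin hperf

theorem nf_irreducible (H : Subgroup (V ≃ₗ[ZMod p] V))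
    (hreg : ∀ v w : V, v ≠ 0 → w ≠ 0 → ∃! h : H, (h : V ≃ₗ[ZMod p] V) v = w)
    (hn2 : Module.finrank (ZMod p) V = 2) (N : Subgroup H) (hNna : ¬ IsMulCommutative N) :
    ∀ W : Submodule (ZMod p) V, (∀ n ∈ N, ∀ v ∈ W, ((n : H) : V ≃ₗ[ZMod p] V) v ∈ W) →
      W = ⊥ ∨ W = ⊤ := by
  intro W hW
  by_contra hcon
  push Not at hcon
  obtain ⟨hWne, hWtop⟩ := hcon
  have hW1 : Module.finrank (ZMod p) W = 1 := by
    have h3 : Module.finrank (ZMod p) W ≠ 0 := fun h0 => hWne (Submodule.finrank_eq_zero.mp h0)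
    have h4 := Submodule.finrank_lt hWtop
    omega
  obtain ⟨w, hwW, hw0⟩ := (Submodule.ne_bot_iff W).mp hWne
  have hspan : ∀ u ∈ W, ∃ c : ZMod p, c • w = u := by
    intro u hu
    have h1 := (finrank_eq_one_iff_of_nonzero' (⟨w, hwW⟩ : W)
      (fun h => hw0 (congrArg Subtype.val h))).mp hW1 ⟨u, hu⟩
    obtain ⟨c, hc⟩ := h1
    exact ⟨c, congrArg Subtype.val hc⟩
  apply hNna
  refine ⟨⟨fun x y => ?_⟩⟩
  obtain ⟨c, hc⟩ := hspan _ (hW x.1 x.2 w hwW)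
  obtain ⟨d, hd⟩ := hspan _ (hW y.1 y.2 w hwW)
  have h1 : (((x * y : N) : H) : V ≃ₗ[ZMod p] V) w = (((y * x : N) : H) : V ≃ₗ[ZMod p] V) w := by
    change ((x : H) : V ≃ₗ[ZMod p] V) (((y : H) : V ≃ₗ[ZMod p] V) w)
      = ((y : H) : V ≃ₗ[ZMod p] V) (((x : H) : V ≃ₗ[ZMod p] V) w)
    rw [← hc, ← hd, map_smul, map_smul, ← hc, ← hd, smul_comm]
  obtain ⟨h₀, _, huniq⟩ := hreg w ((((y * x : N) : H) : V ≃ₗ[ZMod p] V) w) hw0 (by simpa using hw0)
  apply Subtype.ext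
  rw [huniq _ h1, huniq ((y * x : N) : H) rfl]

theorem nf_irreducible_centralizer (hZ : ZassHyp) (H : Subgroup (V ≃ₗ[ZMod p] V))
    (hreg : ∀ v w : V, v ≠ 0 → w ≠ 0 → ∃! h : H, (h : V ≃ₗ[ZMod p] V) v = w)
    (hI : ∀ A : Subgroup H, A.Normal → IsCyclic A → ∃ W : Submodule (ZMod p) V, W ≠ ⊥ ∧ W ≠ ⊤ ∧
      ∀ a ∈ A, ∀ v ∈ W, ((a : H) : V ≃ₗ[ZMod p] V) v ∈ W)
    (A : Subgroup H) (hAn : A.Normal) (hAc : IsMulCommutative A)
    (hAmax : ∀ B : Subgroup H, B.Normal → IsMulCommutative B → A ≤ B → B = A)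
    (N : Subgroup H) (hNn : N.Normal) (hNle : N ≤ centralizer (A : Set H))
    (hNna : ¬ IsMulCommutative N)
    (hNmin : ∀ M : Subgroup H, M.Normal → M ≤ N → ¬ IsMulCommutative M → M = N) :
    (∀ W : Submodule (ZMod p) V, (∀ n ∈ N, ∀ v ∈ W, ((n : H) : V ≃ₗ[ZMod p] V) v ∈ W) →
      W = ⊥ ∨ W = ⊤) ∧ centralizer (N : Set H) = A := by
  have hgood : ∀ N : Subgroup H, N.Normal → N ≤ centralizer (A : Set H) →
      ¬ IsMulCommutative N →
      (∀ M : Subgroup H, M.Normal → M ≤ N → ¬ IsMulCommutative M → M = N) → HasQuat N := by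
    intro N h1 h2 h3 h4
    rcases nf_min_normal hZ H hreg A hAn hAc hAmax N h1 h2 h3 h4 with ⟨⟨e⟩⟩ | ⟨⟨e⟩⟩
    · exact HasQuat.of_equiv e hasQuat_quaternion
    · exact HasQuat.of_equiv e Cfsg.Agent.Lib.Helper55.sl25_quat
  obtain ⟨hn2, hC, -⟩ := nf_dim_two H hreg hI A hAn hAc hAmax hgood N hNn hNle hNna hNmin
    (nf_min_normal hZ H hreg A hAn hAc hAmax N hNn hNle hNna hNmin)
  exact ⟨nf_irreducible H hreg hn2 N hNna, hC⟩

end

end Cfsg.Agent.Lib.Helper96
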