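import Mathlib
import Cfsg.Agent.Lib.Helper53.Zas.LemmaY
import Cfsg.Agent.Lib.Helper62.SL25
import Cfsg.Agent.S3225

set_option autoImplicit false
set_option linter.style.haveILetI false
set_option linter.unusedSectionVars false

/-! Zassenhaus' theorem: in a perfect group satisfying `ZHyp`, the element `i` of binary
tetrahedral data has no square root (exclusion of generalized quaternion Sylow subgroups of
order 16). -/

namespace Cfsg.Agent.Lib.Helper96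

open Subgroup Cfsg.Agent.Lib.Helper53.Zas

variable {G : Type*} [Group G] [Finite G]

theorem zsq_inv' {x y : G} (h1 : y * x * y⁻¹ = x⁻¹) : y⁻¹ * x * y = x⁻¹ := by
  have h2 : x = y⁻¹ * x⁻¹ * y := by rw [← h1]; group
  calc y⁻¹ * x * y = (y⁻¹ * x⁻¹ * y)⁻¹ := by group
    _ = x⁻¹ := by rw [← h2]

theorem zsq_inverts {x y : G} (h1 : y * x * y⁻¹ = x⁻¹) : ∀ t ∈ zpowers x, y * t * y⁻¹ = t⁻¹ := by
  intro t ht
  obtain ⟨k, rfl⟩ := mem_zpowers_iff.mp ht
  rw [← conj_zpow, h1, inv_zpow]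

theorem zsq_pgroup {x y : G} (hx : IsPGroup 2 (zpowers x)) (hy : IsPGroup 2 (zpowers y))
    (hinv : y * x * y⁻¹ = x⁻¹) : IsPGroup 2 (zpowers y ⊔ zpowers x : Subgroup G) := by
  apply hy.to_sup_of_normal_right' hx
  rw [zpowers_le, mem_normalizer_iff]
  intro t
  constructor
  · intro ht
    rw [zsq_inverts hinv t ht]
    exact inv_mem ht
  · intro ht
    have h0 : y⁻¹ * x * y⁻¹⁻¹ = x⁻¹ := by rw [inv_inv]; exact zsq_inv' hinv
    have h1 := zsq_inverts h0 _ ht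
    have h2 : y⁻¹ * (y * t * y⁻¹) * y⁻¹⁻¹ = t := by group
    rw [h2] at h1
    rw [h1]
    exact inv_mem ht

/-- relations in the quaternion group of order 16 -/
theorem zsq_rel {i j d β : G} (T : TD i j d) (hβ : β ^ 2 = i) (hβj : j * β * j⁻¹ = β⁻¹) :
    (β * i = i * β) ∧ ((β * j) ^ 2 = i ^ 2) ∧ ((β * j) * i * (β * j)⁻¹ = i⁻¹) ∧
    (i * (β * j) * i⁻¹ = (β * j)⁻¹) ∧ (β * (β * j) * β⁻¹ = i * (β * j)) := by
  have R1 : β * i = i * β := by rw [← hβ, ← pow_succ', ← pow_succ]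
  have R2 : (β * j) ^ 2 = i ^ 2 := by
    calc (β * j) ^ 2 = β * (j * β * j⁻¹) * j ^ 2 := by simp only [pow_two]; group
      _ = j ^ 2 := by rw [hβj]; group
      _ = i ^ 2 := T.j2
  have R4 : (β * j) * i * (β * j)⁻¹ = i⁻¹ := by
    have hc : Commute β i⁻¹ := (show Commute β i from R1).inv_right
    calc (β * j) * i * (β * j)⁻¹ = β * (j * i * j⁻¹) * β⁻¹ := by group
      _ = β * i⁻¹ * β⁻¹ := by rw [T.inv]
      _ = i⁻¹ := by rw [hc.eq, mul_inv_cancel_right]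
  have hu4 : (β * j) ^ 4 = 1 := by
    rw [show 4 = 2 * 2 from rfl, pow_mul, R2, ← pow_mul]
    exact T.i4
  have R3 : i * (β * j) * i⁻¹ = (β * j)⁻¹ := by
    calc i * (β * j) * i⁻¹ = i * ((β * j) * i * (β * j)⁻¹)⁻¹ * (β * j) := by group
      _ = i ^ 2 * (β * j) := by rw [R4, inv_inv, pow_two]
      _ = (β * j) ^ 3 := by rw [← R2, ← pow_succ]
      _ = (β * j)⁻¹ := by
        rw [eq_inv_iff_mul_eq_one, ← pow_succ]
        exact hu4
  have R5 : β * (β * j) * β⁻¹ = i * (β * j) := by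
    calc β * (β * j) * β⁻¹ = β ^ 2 * (j * β * j⁻¹)⁻¹ * j := by simp only [pow_two]; group
      _ = i * (β * j) := by rw [hβj, inv_inv, hβ, mul_assoc]
  exact ⟨R1, R2, R4, R3, R5⟩

theorem zsq_comm_facts (h : ZHyp G) {i j d : G} (T : TD i j d) {c : G} (hc : c * i = i * c) :
    (c * j * c⁻¹ * j⁻¹) * i = i * (c * j * c⁻¹ * j⁻¹) ∧
    j * (c * j * c⁻¹ * j⁻¹) * j⁻¹ = (c * j * c⁻¹ * j⁻¹)⁻¹ := by
  have hw : ∀ g, g * j ^ 2 = j ^ 2 * g := by
    rw [T.j2]
    exact h.central T.orderOf_z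
  have s1 : SemiconjBy j⁻¹ i i⁻¹ := by
    change j⁻¹ * i = i⁻¹ * j⁻¹
    rw [← zsq_inv' T.inv]
    group
  have s2 : SemiconjBy c⁻¹ i⁻¹ i⁻¹ := by
    have : Commute c i := hc
    exact this.inv_inv
  have s3 : SemiconjBy j i⁻¹ i := by
    change j * i⁻¹ = i * j
    calc j * i⁻¹ = (j * i * j⁻¹)⁻¹ * j := by group
      _ = i * j := by rw [T.inv, inv_inv]
  have s4 : SemiconjBy c i i := hc
  refine ⟨(((s4.mul_left s3).mul_left s2).mul_left s1), ?_⟩
  have h3 : c⁻¹ * (j ^ 2)⁻¹ = (j ^ 2)⁻¹ * c⁻¹ := by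
    have : Commute c (j ^ 2) := hw c
    exact this.inv_inv
  calc j * (c * j * c⁻¹ * j⁻¹) * j⁻¹ = j * c * (j * (c⁻¹ * (j ^ 2)⁻¹)) := by group
    _ = j * c * (j * ((j ^ 2)⁻¹ * c⁻¹)) := by rw [h3]
    _ = (c * j * c⁻¹ * j⁻¹)⁻¹ := by group

/-- a square root of `i` may be chosen inverted by `j` -/
theorem zsq_beta (h : ZHyp G) {i j d : G} (T : TD i j d) {α : G} (hα : α ^ 2 = i) :
    ∃ β : G, β ^ 2 = i ∧ j * β * j⁻¹ = β⁻¹ := by
  have hz : ∀ g, g * i ^ 2 = i ^ 2 * g := h.central T.orderOf_z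
  have hαi : α * i = i * α := by rw [← hα, ← pow_succ', ← pow_succ]
  obtain ⟨h1, h2⟩ := zsq_comm_facts h T hαi
  rcases h.lemmaYZ T h1 h2 with h3 | ⟨β, l, hβ2, hβj, -, -⟩
  · -- `s = j α j⁻¹ α`
    have hs : j * α * j⁻¹ * α = (α * j * α⁻¹ * j⁻¹)⁻¹ * i := by
      rw [← hα]
      group
    have hsm : j * α * j⁻¹ * α ∈ zpowers i := by
      rw [hs]
      exact mul_mem (inv_mem h3) (mem_zpowers i)
    have hsinv := zsq_inverts T.inv _ hsm
    have hαs : α * (j * α * j⁻¹ * α) = (j * α * j⁻¹ * α) * α := by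
      obtain ⟨k, hk⟩ := mem_zpowers_iff.mp hsm
      rw [← hk]
      exact ((show Commute α i from hαi).zpow_right k).eq
    have hsfix : j * (j * α * j⁻¹ * α) * j⁻¹ = j * α * j⁻¹ * α := by
      have h4 : j ^ 2 * α = α * j ^ 2 := by
        rw [T.j2]
        exact (hz α).symm
      calc j * (j * α * j⁻¹ * α) * j⁻¹ = (j ^ 2 * α) * (j ^ 2)⁻¹ * (j * α * j⁻¹) := by
            simp only [pow_two]; group
        _ = α * (j * α * j⁻¹ * α) * α⁻¹ := by rw [h4]; group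
        _ = j * α * j⁻¹ * α := by rw [hαs]; group
    have hs2 : (j * α * j⁻¹ * α) ^ 2 = 1 := by
      rw [hsfix] at hsinv
      rw [pow_two]
      nth_rewrite 1 [hsinv]
      exact inv_mul_cancel _
    by_cases hs1 : j * α * j⁻¹ * α = 1
    · exact ⟨α, hα, eq_inv_of_mul_eq_one_left hs1⟩
    · exfalso
      have hsz := h.eq_of_sq T.orderOf_z hs2 hs1
      have h5 : (j * α) ^ 2 = 1 := by
        have h4 : j ^ 2 * α = α * j ^ 2 := by
          rw [T.j2]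
          exact (hz α).symm
        calc (j * α) ^ 2 = j * α * j⁻¹ * (j ^ 2 * α) := by simp only [pow_two]; group
          _ = (j * α * j⁻¹ * α) * j ^ 2 := by rw [h4]; group
          _ = 1 := by rw [hsz, T.j2, ← pow_add]; exact T.i4
      apply T.ne_comm
      have h6 : Commute (j * α) i := by
        by_cases h7 : j * α = 1
        · rw [h7]; exact Commute.one_left i
        · rw [h.eq_of_sq T.orderOf_z h5 h7]
          exact (hz i).symm
      have h8 : Commute j i := by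
        have := h6.mul_left (show Commute α i from hαi).inv_left
        simpa using this
      exact h8.eq.symm
  · exact ⟨β, hβ2, hβj⟩

theorem zsq_pm {i j d : G} (T : TD i j d) {t : G} (ht : t ∈ zpowers i) (ht2 : t ^ 2 ≠ 1) :
    t = i ∨ t = i⁻¹ := by
  obtain ⟨r, hr⟩ := Submonoid.mem_powers_iff _ _ |>.1 (mem_powers_iff_mem_zpowers.2 ht)
  have hr' : i ^ (r % 4) = t := by
    rw [← hr]
    conv_rhs => rw [← Nat.div_add_mod r 4, pow_add, pow_mul, T.i4, one_pow, one_mul]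
  have hlt : r % 4 < 4 := Nat.mod_lt _ (by norm_num)
  generalize r % 4 = s at hr' hlt
  interval_cases s
  · exfalso; apply ht2; rw [← hr']; simp
  · left; rw [← hr', pow_one]
  · exfalso; apply ht2; rw [← hr', ← pow_mul]; exact T.i4
  · right; rw [← hr', T.inv_i]

/-- by Thompson transfer, `β j` is conjugate to `i`. -/
theorem zsq_conj (h : ZHyp G) (hperf : commutator G = ⊤) {i j d β : G} (T : TD i j d)
    (hβ : β ^ 2 = i) (hβj : j * β * j⁻¹ = β⁻¹) : ∃ j' d' : G, TD (β * j) j' d' := by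
  haveI : Fact (Nat.Prime 2) := ⟨Nat.prime_two⟩
  obtain ⟨R1, R2, R4, R3, R5⟩ := zsq_rel T hβ hβj
  have hβ4 : β ^ 4 = i ^ 2 := by rw [show 4 = 2 * 2 from rfl, pow_mul, hβ]
  have hβ8 : orderOf β = 2 ^ 3 := by
    apply orderOf_eq_prime_pow (p := 2) (n := 2)
    · rw [show 2 ^ 2 = 4 from rfl, hβ4]
      exact T.i2
    · rw [show 2 ^ (2 + 1) = 4 * 2 from rfl, pow_mul, hβ4, ← pow_mul]
      exact T.i4
  have hpβ : IsPGroup 2 (zpowers β) := IsPGroup.of_card (n := 3) (by rw [Nat.card_zpowers, hβ8])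
  have hpj : IsPGroup 2 (zpowers j) :=
    IsPGroup.of_card (n := 2) (by rw [Nat.card_zpowers, T.rot.orderOf_i]; norm_num)
  obtain ⟨S, hS⟩ := (zsq_pgroup hpβ hpj hβj).exists_le_sylow
  have hβS : β ∈ S := hS (mem_sup_right (mem_zpowers β))
  have hjS : j ∈ S := hS (mem_sup_left (mem_zpowers j))
  have hiS : i ∈ S := hβ ▸ pow_mem hβS 2
  rcases Cfsg.Agent.Lib.Helper25.sylow_cyclic_or_quaternion_of_key h.key0 2 S with
    hc | ⟨-, n, ⟨e⟩⟩
  · exfalso
    letI := hc.commGroup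
    apply T.ne_comm
    exact congrArg Subtype.val (mul_comm (⟨i, hiS⟩ : S) ⟨j, hjS⟩)
  set a₁ : S := e.symm (QuaternionGroup.a 1) with ha₁
  have hoa : orderOf (a₁ : G) = 2 * 2 ^ n := by
    rw [Subgroup.orderOf_coe, ha₁, MulEquiv.orderOf_eq, QuaternionGroup.orderOf_a_one]
  have hcardS : Nat.card S = 4 * 2 ^ n := by
    rw [Nat.card_congr e.toEquiv, Nat.card_eq_fintype_card, QuaternionGroup.card]
  have hMS : zpowers (a₁ : G) ≤ S := by
    rw [zpowers_le]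
    exact a₁.2
  have hrel : (zpowers (a₁ : G)).relIndex S = 2 := by
    have h1 := relIndex_mul_relIndex ⊥ (zpowers (a₁ : G)) S bot_le hMS
    rw [relIndex_bot_left, relIndex_bot_left, Nat.card_zpowers, hoa, hcardS] at h1
    have h2 : 0 < 2 * 2 ^ n := by positivity
    have h3 : 2 * 2 ^ n * (zpowers (a₁ : G)).relIndex S = 2 * 2 ^ n * 2 := by rw [h1]; ring
    exact Nat.eq_of_mul_eq_mul_left h2 h3
  have hβM : β ∈ zpowers (a₁ : G) := by
    rcases hE : e ⟨β, hβS⟩ with k | k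
    · have h1 : (⟨β, hβS⟩ : S) = a₁ ^ k.val := by
        apply e.injective
        rw [map_pow, ha₁, e.apply_symm_apply, QuaternionGroup.a_one_pow, hE, ZMod.natCast_zmod_val]
      have h2 : β = (a₁ : G) ^ k.val := congrArg Subtype.val h1
      rw [h2]
      exact pow_mem (mem_zpowers _) _
    · exfalso
      apply T.i2
      rw [← hβ4]
      have h1 : (⟨β, hβS⟩ : S) ^ 4 = 1 := by
        apply e.injective
        rw [map_pow, hE, QuaternionGroup.xa_pow_four, map_one]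
      exact congrArg Subtype.val h1
  have hiM : i ∈ zpowers (a₁ : G) := hβ ▸ pow_mem hβM 2
  have hu4 : orderOf (β * j) = 2 ^ 2 := by
    apply orderOf_eq_prime_pow (p := 2) (n := 1)
    · rw [pow_one, R2]
      exact T.i2
    · rw [show 2 ^ (1 + 1) = 2 * 2 from rfl, pow_mul, R2, ← pow_mul]
      exact T.i4
  obtain ⟨g, hg⟩ := Cfsg.Agent.S3225.result
    (by
      rw [even_iff_two_dvd, ← T.orderOf_z]
      exact orderOf_dvd_natCard _)
    (by
      intro H hH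
      have hle := Cfsg.Agent.Lib.Helper62.commutator_le_of_index_two H hH
      rw [hperf, top_le_iff] at hle
      rw [hle, index_top] at hH
      omega)
    S (zpowers (a₁ : G)) hMS hrel 2 (by norm_num)
    (by
      intro y _ hyM
      by_contra hcon
      apply hyM
      have h1 : orderOf y ≤ 2 := by simpa using hcon
      have h2 : 0 < orderOf y := orderOf_pos y
      have h3 : orderOf y = 1 ∨ orderOf y = 2 := by omega
      rcases h3 with h3 | h3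
      · rw [orderOf_eq_one_iff.mp h3]
        exact one_mem _
      · rw [h.inv_unique y (i ^ 2) h3 T.orderOf_z]
        exact pow_mem hiM 2)
    (β * j) (mul_mem hβS hjS) hu4
  -- the conjugate lies in `zpowers i`
  have hord : orderOf (g * (β * j) * g⁻¹) = 4 := by
    have : orderOf (g * (β * j) * g⁻¹) = orderOf (β * j) :=
      orderOf_injective (MulAut.conj g).toMonoidHom (MulAut.conj g).injective (β * j)
    rw [this, hu4]
    norm_num
  have hcomm : i * (g * (β * j) * g⁻¹) = (g * (β * j) * g⁻¹) * i := by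
    obtain ⟨k, hk⟩ := mem_zpowers_iff.mp hiM
    obtain ⟨l, hl⟩ := mem_zpowers_iff.mp hg
    rw [← hk, ← hl]
    exact ((Commute.refl (a₁ : G)).zpow_zpow k l).eq
  have hmem : g * (β * j) * g⁻¹ ∈ zpowers i :=
    h.mem_zpowers (by rw [hord, T.orderOf_i]) hcomm
  have hne : (g * (β * j) * g⁻¹) ^ 2 ≠ 1 := by
    intro hcon
    have := orderOf_dvd_of_pow_eq_one hcon
    rw [hord] at this
    omega
  have hTt : ∃ j' d' : G, TD (g * (β * j) * g⁻¹) j' d' := by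
    rcases zsq_pm T hmem hne with h1 | h1
    · rw [h1]
      exact ⟨j, d, T⟩
    · rw [h1, ← T.inv]
      exact ⟨_, _, T.conj j⟩
  obtain ⟨j', d', T'⟩ := hTt
  have h2 := T'.conj g⁻¹
  have h3 : g⁻¹ * (g * (β * j) * g⁻¹) * g⁻¹⁻¹ = β * j := by group
  rw [h3] at h2
  exact ⟨_, _, h2⟩

theorem zsq_chi_td {X : Subgroup G} (χ : X →* ℤˣ) {a b e : G} (T : TD a b e) (ha : a ∈ X)
    (hb : b ∈ X) (he : e ∈ X) : χ ⟨a, ha⟩ = 1 ∧ χ ⟨b, hb⟩ = 1 := by
  have h1 : χ ⟨b, hb⟩ = χ ⟨a, ha⟩ := by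
    have : (⟨b, hb⟩ : X) = ⟨e, he⟩ * ⟨a, ha⟩ * ⟨e, he⟩⁻¹ := Subtype.ext T.di.symm
    rw [this, map_mul, map_mul, map_inv, mul_comm (χ ⟨e, he⟩), mul_inv_cancel_right]
  have h2 : χ ⟨a, ha⟩ * χ ⟨b, hb⟩ = χ ⟨b, hb⟩ := by
    have : (⟨a, ha⟩ : X) * ⟨b, hb⟩ = ⟨e, he⟩ * ⟨b, hb⟩ * ⟨e, he⟩⁻¹ := Subtype.ext T.dj.symm
    rw [← map_mul, this, map_mul, map_mul, map_inv, mul_comm (χ ⟨e, he⟩), mul_inv_cancel_right]
  have h3 : χ ⟨a, ha⟩ = 1 := mul_eq_right.mp h2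
  exact ⟨h3, h1.trans h3⟩

theorem zsq_chi (h : ZHyp G) {i j d β : G} (T : TD i j d) (hβ : β ^ 2 = i)
    (hβj : j * β * j⁻¹ = β⁻¹) :
    ∃ (X : Subgroup G) (χ : X →* ℤˣ), Rig X ∧ ∃ (hβX : β ∈ X) (hjX : j ∈ X),
      χ ⟨β, hβX⟩ = -1 ∧ χ ⟨j, hjX⟩ = 1 := by
  have hiβ : i ∈ zpowers β := hβ ▸ pow_mem (mem_zpowers β) 2
  have hβ8 : β ^ 8 = 1 := by
    rw [show 8 = 2 * 4 from rfl, pow_mul, hβ]
    exact T.i4
  obtain ⟨X, hβX, hiX, hjX, hdX, hR, hf⟩ := h.planeY T hβj hiβ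
  have key : ∀ {Γ : Type} [Group Γ] (f : X →* Γ), f.ker ≤ center X →
      (f ⟨β, hβX⟩) ^ 8 = 1 ∧ (f ⟨β, hβX⟩) ^ 2 ≠ 1 := by
    intro Γ _ f hker
    constructor
    · rw [← map_pow]
      have : (⟨β, hβX⟩ : X) ^ 8 = 1 := Subtype.ext hβ8
      rw [this, map_one]
    · intro hcon
      rw [← map_pow] at hcon
      have h1 : (⟨β, hβX⟩ : X) ^ 2 ∈ center X := hker hcon
      have h2 := mem_center_iff.mp h1 ⟨j, hjX⟩
      have h3 : j * β ^ 2 = β ^ 2 * j := congrArg Subtype.val h2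
      rw [hβ] at h3
      exact T.ne_comm h3.symm
  rcases hf with ⟨f, -, hker⟩ | ⟨f, -, hker⟩ | ⟨f, -, hker⟩
  · exfalso
    obtain ⟨k8, k2⟩ := key f hker
    rcases alt4_pow (f ⟨β, hβX⟩) with h1 | h1
    · exact k2 h1
    · apply k2
      have h9 : (f ⟨β, hβX⟩) ^ 9 = 1 := by rw [show 9 = 3 * 3 from rfl, pow_mul, h1, one_pow]
      rw [show 9 = 8 + 1 from rfl, pow_succ, k8, one_mul] at h9
      rw [h9, one_pow]
  · obtain ⟨k8, k2⟩ := key f hker
    refine ⟨X, Equiv.Perm.sign.comp f, hR, hβX, hjX, ?_, ?_⟩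
    · rw [MonoidHom.comp_apply]
      exact perm4_sign _ k8 k2
    have h1 : (⟨j, hjX⟩ : X) = ⟨d, hdX⟩ * (⟨β, hβX⟩ ^ 2) * ⟨d, hdX⟩⁻¹ := by
      apply Subtype.ext
      change j = d * β ^ 2 * d⁻¹
      rw [hβ, T.di]
    rw [h1, map_mul, map_mul, map_inv, map_pow, Int.units_sq, mul_one, mul_inv_cancel]
  · exfalso
    obtain ⟨k8, k2⟩ := key f hker
    rcases alt5_pow (f ⟨β, hβX⟩) with h1 | h1 | h1
    · exact k2 h1
    · apply k2
      have h9 : (f ⟨β, hβX⟩) ^ 9 = 1 := by rw [show 9 = 3 * 3 from rfl, pow_mul, h1, one_pow]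
      rw [show 9 = 8 + 1 from rfl, pow_succ, k8, one_mul] at h9
      rw [h9, one_pow]
    · apply k2
      have h25 : (f ⟨β, hβX⟩) ^ 25 = 1 := by rw [show 25 = 5 * 5 from rfl, pow_mul, h1, one_pow]
      rw [show 25 = 8 * 3 + 1 from rfl, pow_succ, pow_mul, k8, one_pow, one_mul] at h25
      rw [h25, one_pow]

theorem zsq_caseB (h : ZHyp G) {i j d β γ : G} (T : TD i j d) (hβ : β ^ 2 = i)
    (hβj : j * β * j⁻¹ = β⁻¹) (hγ : γ ^ 2 = β * j) (hγi : i * γ * i⁻¹ = γ⁻¹) :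
    ∃ e, TD i (β * j) e := by
  obtain ⟨R1, R2, R4, R3, R5⟩ := zsq_rel T hβ hβj
  have hj : j = β⁻¹ * (β * j) := by group
  generalize β * j = u at *
  have hz : ∀ g, g * i ^ 2 = i ^ 2 * g := h.central T.orderOf_z
  have G1 : γ * u = u * γ := by rw [← hγ, ← pow_succ', ← pow_succ]
  have G2 : γ * i * γ⁻¹ = u * i := by
    calc γ * i * γ⁻¹ = γ * (i * γ * i⁻¹)⁻¹ * i := by group
      _ = γ * γ * i := by rw [hγi, inv_inv]
      _ = u * i := by rw [← pow_two, hγ]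
  have hiui : i * u * i = u := by
    calc i * u * i = (i * u * i⁻¹) * i ^ 2 := by simp only [pow_two]; group
      _ = u⁻¹ * u ^ 2 := by rw [R3, R2]
      _ = u := by simp only [pow_two]; group
  have huiu : u * (i * u) = i := by
    calc u * (i * u) = (u * i * u⁻¹) * u ^ 2 := by simp only [pow_two]; group
      _ = i⁻¹ * i ^ 2 := by rw [R4, R2]
      _ = i := by simp only [pow_two]; group
  have B1 : β * (β * γ) * β⁻¹ = i * u * (β * γ)⁻¹ := by
    rw [← hβ, ← hγ]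
    simp only [pow_two]
    group
  have W1 : (β * γ) * i * (β * γ)⁻¹ = u := by
    calc (β * γ) * i * (β * γ)⁻¹ = β * (γ * i * γ⁻¹) * β⁻¹ := by group
      _ = (β * u * β⁻¹) * (β * i * β⁻¹) := by rw [G2]; group
      _ = i * u * i := by rw [R5, R1, mul_inv_cancel_right]
      _ = u := hiui
  have W2 : (β * γ) * u * (β * γ)⁻¹ = i * u := by
    calc (β * γ) * u * (β * γ)⁻¹ = β * (γ * u * γ⁻¹) * β⁻¹ := by group
      _ = β * u * β⁻¹ := by rw [G1, mul_inv_cancel_right]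
      _ = i * u := R5
  generalize β * γ = w at *
  have W3 : w * (i * u) * w⁻¹ = i := by
    calc w * (i * u) * w⁻¹ = (w * i * w⁻¹) * (w * u * w⁻¹) := by group
      _ = u * (i * u) := by rw [W1, W2]
      _ = i := huiu
  have C1 : w ^ 3 * i = i * w ^ 3 := by
    have : w ^ 3 * i * (w ^ 3)⁻¹ = i := by
      calc w ^ 3 * i * (w ^ 3)⁻¹ = w * (w * (w * i * w⁻¹) * w⁻¹) * w⁻¹ := by
            simp only [pow_succ, pow_zero, one_mul]; group
        _ = i := by rw [W1, W2, W3]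
    exact mul_inv_eq_iff_eq_mul.mp this
  have C2 : w ^ 3 * u = u * w ^ 3 := by
    have : w ^ 3 * u * (w ^ 3)⁻¹ = u := by
      calc w ^ 3 * u * (w ^ 3)⁻¹ = w * (w * (w * u * w⁻¹) * w⁻¹) * w⁻¹ := by
            simp only [pow_succ, pow_zero, one_mul]; group
        _ = u := by rw [W2, W3, W1]
    exact mul_inv_eq_iff_eq_mul.mp this
  have Q1 : w⁻¹ * (i * u) * w = u := by rw [← W2]; group
  have Q2 : w⁻¹ * u * w = i := by rw [← W1]; group
  have B2 : β * w ^ 3 * β⁻¹ = (w ^ 3)⁻¹ := by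
    rw [← conj_pow, B1]
    calc (i * u * w⁻¹) ^ 3
        = (i * u) * (w⁻¹ * (i * u) * w) * (w⁻¹ * (w⁻¹ * (i * u) * w) * w) * (w ^ 3)⁻¹ := by
          simp only [pow_succ, pow_zero, one_mul]; group
      _ = (i * u) * u * i * (w ^ 3)⁻¹ := by rw [Q1, Q2]
      _ = (w ^ 3)⁻¹ := by
        have : i * u * u * i = 1 := by
          calc i * u * u * i = i * u ^ 2 * i := by simp only [pow_two]; group
            _ = i ^ 4 := by rw [R2]; simp only [pow_succ, pow_zero, one_mul]; group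
            _ = 1 := T.i4
        rw [this, one_mul]
  have J1 : j * w ^ 3 * j⁻¹ = (w ^ 3)⁻¹ := by
    have B3 : β⁻¹ * w ^ 3 * β = (w ^ 3)⁻¹ := by
      have : w ^ 3 = β⁻¹ * (w ^ 3)⁻¹ * β := by rw [← B2]; group
      calc β⁻¹ * w ^ 3 * β = (β⁻¹ * (w ^ 3)⁻¹ * β)⁻¹ := by group
        _ = (w ^ 3)⁻¹ := by rw [← this]
    calc j * w ^ 3 * j⁻¹ = β⁻¹ * (u * w ^ 3 * u⁻¹) * β := by rw [hj]; group
      _ = β⁻¹ * w ^ 3 * β := by rw [← C2, mul_inv_cancel_right]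
      _ = _ := B3
  have hc2 : (w ^ 3) ^ 2 = 1 := by
    rcases h.lemmaYZ T C1 J1 with h1 | ⟨β₁, l, hβ₁, -, hcl, hl⟩
    · have h2 := zsq_inverts R4 _ h1
      rw [← C2, mul_inv_cancel_right] at h2
      rw [pow_two]
      nth_rewrite 1 [h2]
      exact inv_mul_cancel _
    · exfalso
      have h2 : (w ^ 3) ^ 2 = i ^ l := by rw [hcl, ← pow_mul, mul_comm, pow_mul, hβ₁]
      have h3 : u * i ^ l * u⁻¹ = (i ^ l)⁻¹ := zsq_inverts R4 _ (pow_mem (mem_zpowers i) l)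
      have h4 : u * i ^ l * u⁻¹ = i ^ l := by
        have hc : Commute (w ^ 3) u := C2
        rw [← h2, ← (hc.pow_left 2).eq, mul_inv_cancel_right]
      have h5 : i ^ (l * 2) = 1 := by
        rw [pow_mul, pow_two]
        nth_rewrite 1 [← h4]
        rw [h3]
        exact inv_mul_cancel _
      have h6 := orderOf_dvd_of_pow_eq_one h5
      rw [T.orderOf_i] at h6
      obtain ⟨m, rfl⟩ := hl
      omega
  by_cases hc1 : w ^ 3 = 1
  · exact ⟨w, ⟨T.i4, T.i2, R2, R4, hc1, W1, W2⟩⟩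
  · have hcz := h.eq_of_sq T.orderOf_z hc2 hc1
    have hconj : ∀ x, (i ^ 2 * w) * x * (i ^ 2 * w)⁻¹ = w * x * w⁻¹ := by
      intro x
      calc (i ^ 2 * w) * x * (i ^ 2 * w)⁻¹ = i ^ 2 * (w * x * w⁻¹) * (i ^ 2)⁻¹ := by group
        _ = w * x * w⁻¹ := by rw [← hz, mul_inv_cancel_right]
    refine ⟨i ^ 2 * w, ⟨T.i4, T.i2, R2, R4, ?_, ?_, ?_⟩⟩
    · have hc : Commute (i ^ 2) w := (hz w).symm
      rw [hc.mul_pow, hcz, ← pow_mul, ← pow_add]
      rw [show 2 * 3 + 2 = 4 * 2 from rfl, pow_mul, T.i4, one_pow]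
    · rw [hconj, W1]
    · rw [hconj, W2]

/-- **no square root**: in a perfect group satisfying `ZHyp`, the element `i` of binary
tetrahedral data is not a square. -/
theorem zas_no_sqrt (h : ZHyp G) (hperf : commutator G = ⊤) {i j d : G} (T : TD i j d) (α : G) :
    α ^ 2 ≠ i := by
  intro hα
  obtain ⟨β, hβ, hβj⟩ := zsq_beta h T hα
  obtain ⟨X, χ, hR, hβX, hjX, hχβ, hχj⟩ := zsq_chi h T hβ hβj
  obtain ⟨R1, R2, R4, R3, R5⟩ := zsq_rel T hβ hβj
  have huX : β * j ∈ X := mul_mem hβX hjX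
  have hiX : i ∈ X := hβ ▸ pow_mem hβX 2
  have hχu : χ ⟨β * j, huX⟩ = -1 := by
    have : (⟨β * j, huX⟩ : X) = ⟨β, hβX⟩ * ⟨j, hjX⟩ := rfl
    rw [this, map_mul, hχβ, hχj, mul_one]
  obtain ⟨j', d', T'⟩ := zsq_conj h hperf T hβ hβj
  have hc1 : (i * j'⁻¹) * (β * j) = (β * j) * (i * j'⁻¹) := by
    have h1 : (i * j'⁻¹) * (β * j) * (i * j'⁻¹)⁻¹ = β * j := by
      calc (i * j'⁻¹) * (β * j) * (i * j'⁻¹)⁻¹ = i * (j'⁻¹ * (β * j) * j') * i⁻¹ := by group
        _ = (i * (β * j) * i⁻¹)⁻¹ := by rw [zsq_inv' T'.inv]; group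
        _ = β * j := by rw [R3, inv_inv]
    exact mul_inv_eq_iff_eq_mul.mp h1
  have hc2 : j' * (i * j'⁻¹) * j'⁻¹ = (i * j'⁻¹)⁻¹ := by
    have h1 : j' ^ 2 = i ^ 2 := T'.j2.trans R2
    calc j' * (i * j'⁻¹) * j'⁻¹ = j' * (i * (j' ^ 2)⁻¹) := by simp only [pow_two]; group
      _ = j' * (i * (i ^ 2)⁻¹) := by rw [h1]
      _ = (i * j'⁻¹)⁻¹ := by simp only [pow_two]; group
  rcases h.lemmaYZ T' hc1 hc2 with hA | ⟨γ, l, hγ2, hγj, hcl, -⟩
  · have hj'X : j' ∈ X := by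
      have h1 : i * j'⁻¹ ∈ X := (zpowers_le.mpr huX) hA
      have h2 : j' = (i * j'⁻¹)⁻¹ * i := by group
      rw [h2]
      exact mul_mem (inv_mem h1) hiX
    have hd'X := hR _ _ _ T' huX hj'X
    have h3 := (zsq_chi_td χ T' huX hj'X hd'X).1
    rw [hχu] at h3
    exact absurd h3 (by decide)
  · have hγi : i * γ * i⁻¹ = γ⁻¹ := by
      have h1 : i = γ ^ l * j' := by rw [← hcl]; group
      calc i * γ * i⁻¹ = γ ^ l * (j' * γ * j'⁻¹) * (γ ^ l)⁻¹ := by rw [h1]; group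
        _ = γ ^ l * γ⁻¹ * (γ ^ l)⁻¹ := by rw [hγj]
        _ = γ⁻¹ := by
          have hc : Commute (γ ^ l) γ⁻¹ := ((Commute.refl γ).pow_left l).inv_right
          rw [hc.eq, mul_inv_cancel_right]
    obtain ⟨e, Te⟩ := zsq_caseB h T hβ hβj hγ2 hγi
    have heX := hR _ _ _ Te hiX huX
    have h3 := (zsq_chi_td χ Te hiX huX heX).2
    rw [hχu] at h3
    exact absurd h3 (by decide)

end Cfsg.Agent.Lib.Helper96
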