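import Mathlib
import Cfsg.Prelude.Def_Solvable
import Cfsg.Agent.Lib.Helper91.Subnormal

/-!
# A "zipper lemma" for the Fitting subgroup, and Baer's theorems
-/

set_option autoImplicit false

namespace Cfsg.Agent.Lib.Helper96

open Subgroup

open scoped Pointwise

variable {G : Type*} [Group G]

/-- `S` lies in a nilpotent subgroup of `H` that is normalized by `H` (i.e. `S ≤ F(H)`). -/
def InFit (S H : Subgroup G) : Prop :=
  ∃ N : Subgroup G, S ≤ N ∧ N ≤ H ∧ H ≤ normalizer (N : Set G) ∧ Group.IsNilpotent N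

theorem InFit.mono_left {S S' H : Subgroup G} (h : S' ≤ S) (hS : InFit S H) : InFit S' H := by
  obtain ⟨N, h1, h2, h3, h4⟩ := hS
  exact ⟨N, h.trans h1, h2, h3, h4⟩

theorem le_normalizer_sup {H N N' : Subgroup G} (h1 : H ≤ normalizer (N : Set G))
    (h2 : H ≤ normalizer (N' : Set G)) : H ≤ normalizer ((N ⊔ N' : Subgroup G) : Set G) := by
  rw [le_normalizer_iff] at h1 h2 ⊢
  intro h hh x hx
  have hmap : (N ⊔ N').map (MulAut.conj h).toMonoidHom ≤ N ⊔ N' := by
    rw [Subgroup.map_sup]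
    apply sup_le_sup
    · rintro _ ⟨y, hy, rfl⟩; exact h1 h hh y hy
    · rintro _ ⟨y, hy, rfl⟩; exact h2 h hh y hy
  exact hmap ⟨x, hx, rfl⟩

theorem InFit.sup {S S' H : Subgroup G} (hS : InFit S H) (hS' : InFit S' H) :
    InFit (S ⊔ S') H := by
  obtain ⟨N, h1, h2, h3, h4⟩ := hS
  obtain ⟨N', h1', h2', h3', h4'⟩ := hS'
  exact ⟨N ⊔ N', sup_le_sup h1 h1', sup_le h2 h2', le_normalizer_sup h3 h3',
    Cfsg.Agent.Lib.Helper91.isNilpotent_sup' N N' (h2.trans h3') (h2'.trans h3) h4 h4'⟩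

theorem InFit.conj {S H : Subgroup G} (x : G) (hS : InFit S H) :
    InFit (MulAut.conj x • S) (MulAut.conj x • H) := by
  obtain ⟨N, h1, h2, h3, h4⟩ := hS
  refine ⟨MulAut.conj x • N, Subgroup.pointwise_smul_le_pointwise_smul_iff.mpr h1,
    Subgroup.pointwise_smul_le_pointwise_smul_iff.mpr h2, ?_,
    Cfsg.Agent.Lib.Helper91.isNilpotent_map (MulAut.conj x).toMonoidHom h4⟩
  rw [le_normalizer_iff] at h3 ⊢
  rintro _ ⟨h, hh, rfl⟩ _ ⟨k, hk, rfl⟩
  refine ⟨h * k * h⁻¹, h3 h hh k hk, ?_⟩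
  simp only [MulDistribMulAction.toMonoidEnd_apply, MulDistribMulAction.toMonoidHom_apply,
    MulAut.smul_def, MulAut.conj_apply]
  group

theorem inFit_top_iff [Finite G] {S : Subgroup G} : InFit S ⊤ ↔ S ≤ Cfsg.fittingSubgroup G := by
  constructor
  · rintro ⟨N, h1, -, h3, h4⟩
    have : N.Normal := normalizer_eq_top_iff.mp (top_le_iff.mp h3)
    exact h1.trans (Cfsg.Agent.Lib.Helper91.le_fittingSubgroup N h4)
  · intro h
    have := Cfsg.Agent.Lib.Helper91.fittingSubgroup_normal (G := G)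
    exact ⟨Cfsg.fittingSubgroup G, h, le_top, (normalizer_eq_top_iff.mpr this).ge,
      Cfsg.Agent.Lib.Helper91.fittingSubgroup_isNilpotent⟩

theorem lt_inf_normalizer_of_isNilpotent {P T : Subgroup G} (hP : Group.IsNilpotent P)
    (hT : T < P) : T < P ⊓ normalizer (T : Set G) := by
  have h1 : T.subgroupOf P < ⊤ := by
    rw [lt_top_iff_ne_top, Ne, Subgroup.subgroupOf_eq_top]
    exact not_le_of_gt hT
  have h2 := Group.normalizerCondition_of_isNilpotent (G := P) (T.subgroupOf P) h1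
  rw [← Subgroup.subgroupOf_normalizer_eq hT.le] at h2
  refine lt_of_le_of_ne (le_inf hT.le Subgroup.le_normalizer) ?_
  intro heq
  apply h2.ne
  ext ⟨x, hx⟩
  simp only [Subgroup.mem_subgroupOf]
  constructor
  · intro h
    exact Subgroup.le_normalizer h
  · intro h
    rw [heq]
    exact ⟨hx, h⟩

theorem conj_smul_eq_of_le [Finite G] {S : Subgroup G} {y : G} (h : MulAut.conj y • S ≤ S) :
    MulAut.conj y • S = S := by
  apply Subgroup.eq_of_le_of_card_ge h
  exact (Nat.card_congr (Subgroup.equivSMul (MulAut.conj y) S).toEquiv).le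

theorem mem_normalizer_of_conj_smul_eq {S : Subgroup G} {y : G} (h : MulAut.conj y • S = S) :
    y ∈ normalizer (S : Set G) := by
  rw [mem_normalizer_iff_map_conj_eq]
  exact h

theorem conj_smul_eq_of_mem_normalizer {S : Subgroup G} {y : G} (h : y ∈ normalizer (S : Set G)) :
    MulAut.conj y • S = S := by
  rw [mem_normalizer_iff_map_conj_eq] at h
  exact h

theorem conj_smul_ne_top {H : Subgroup G} (y : G) (h : H ≠ ⊤) : MulAut.conj y • H ≠ ⊤ := by
  intro htop
  apply h
  rw [eq_top_iff]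
  intro x _
  have : y * x * y⁻¹ ∈ MulAut.conj y • H := by rw [htop]; trivial
  obtain ⟨z, hz, hzx⟩ := this
  have : z = x := by
    simpa [MulAut.conj_apply] using hzx
  rwa [← this]

/-- **Zipper lemma for the Fitting subgroup.** If `S ≤ F(H)` for all proper subgroups `H` containing
`S`, but `S ≰ F(G)`, then `S` lies in at most one maximal subgroup of `G`. -/
theorem zipper [Finite G] (S : Subgroup G)
    (hyp : ∀ H : Subgroup G, S ≤ H → H ≠ ⊤ → InFit S H) (hS : ¬ InFit S ⊤)
    (M K : Subgroup G) (hM : IsCoatom M) (hK : IsCoatom K) (hSM : S ≤ M) (hSK : S ≤ K) :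
    M = K := by
  induction S using WellFoundedGT.induction generalizing M K with
  | ind S ih =>
  have hStop : S ≠ ⊤ := by
    rintro rfl
    exact hM.1 (top_le_iff.mp hSM)
  obtain ⟨N0, h1, h2, -, h4⟩ := hyp S le_rfl hStop
  have hSnil : Group.IsNilpotent S := by rwa [le_antisymm h1 h2]
  have hnorm : normalizer (S : Set G) ≠ ⊤ := by
    intro h
    exact hS ⟨S, le_rfl, le_top, h.ge, hSnil⟩
  obtain ⟨M0, hM0, hNM0⟩ :=
    (eq_top_or_exists_le_coatom (normalizer (S : Set G))).resolve_left hnorm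
  suffices key : ∀ K : Subgroup G, IsCoatom K → S ≤ K → K = M0 by
    rw [key M hM hSM, key K hK hSK]
  clear hM hK hSM hSK M K
  intro K hK hSK
  by_cases hKn : K ≤ normalizer (S : Set G)
  · exact ((hK.le_iff.mp (hKn.trans hNM0)).resolve_left hM0.1).symm
  · obtain ⟨N, hSN, hNK, hKN, hNnil⟩ := hyp K hSK hK.1
    have hk : ∃ k ∈ K, MulAut.conj k • S ≠ S := by
      by_contra hcon
      push Not at hcon
      exact hKn fun k hk => mem_normalizer_of_conj_smul_eq (hcon k hk)
    obtain ⟨k, hkK, hkS⟩ := hk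
    have hconjN : ∀ y ∈ K, MulAut.conj y • S ≤ N := by
      rintro y hy _ ⟨s, hs, rfl⟩
      exact (le_normalizer_iff.mp hKN) y hy s (hSN hs)
    obtain ⟨T, hST, hTmax⟩ := Finite.exists_le_maximal
      (p := fun T : Subgroup G => S ≤ T ∧ T ≤ N ∧
        ∀ y ∈ K, MulAut.conj y • S ≤ T → MulAut.conj y • S = S) (a := S)
      ⟨le_rfl, hSN, fun y _ hle => conj_smul_eq_of_le hle⟩
    obtain ⟨-, hTN, hTprop⟩ := hTmax.prop
    have hTne : T ≠ N := by
      rintro rfl
      exact hkS (hTprop k hkK (hconjN k hkK))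
    have hgrow := lt_inf_normalizer_of_isNilpotent hNnil (lt_of_le_of_ne hTN hTne)
    have hex : ∃ y ∈ K, MulAut.conj y • S ≤ N ⊓ normalizer (T : Set G) ∧
        MulAut.conj y • S ≠ S := by
      by_contra hcon
      push Not at hcon
      exact absurd (hTmax.le_of_ge ⟨hST.trans hgrow.le, inf_le_left, hcon⟩ hgrow.le)
        (not_le_of_gt hgrow)
    obtain ⟨y, hyK, hyT, hyS⟩ := hex
    have hS'norm : MulAut.conj y • S ≤ normalizer (S : Set G) := by
      intro s' hs'
      apply mem_normalizer_of_conj_smul_eq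
      apply hTprop s' (hNK (hyT hs').1)
      rintro _ ⟨s, hs, rfl⟩
      exact (le_normalizer_iff.mp (le_refl (normalizer (T : Set G)))) s' (hyT hs').2 s (hST hs)
    have hlt : S < S ⊔ MulAut.conj y • S := by
      refine lt_of_le_of_ne le_sup_left fun h => hyS (conj_smul_eq_of_le ?_)
      exact le_sup_right.trans h.ge
    have hyK' : MulAut.conj y • S ≤ K := (hconjN y hyK).trans hNK
    refine ih _ hlt ?_ (fun h => hS (h.mono_left le_sup_left)) K M0 hK hM0 (sup_le hSK hyK')
      (sup_le (le_normalizer.trans hNM0) (hS'norm.trans hNM0))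
    intro H hH hHtop
    have a1 := hyp H (le_sup_left.trans hH) hHtop
    have a2 : InFit S (MulAut.conj y⁻¹ • H) := by
      apply hyp _ _ (conj_smul_ne_top _ hHtop)
      rw [Subgroup.subset_pointwise_smul_iff, map_inv, inv_inv]
      exact le_sup_right.trans hH
    have a3 := a2.conj y
    rw [smul_smul, ← map_mul, mul_inv_cancel, map_one, one_smul] at a3
    exact a1.sup a3

end Cfsg.Agent.Lib.Helper96
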